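import Groth.Agent.Lib.FilInj.Embed

/-!
# Binary biproducts and levelwise cokernels of finite filtered objects
-/

universe v u

open CategoryTheory Limits Opposite

namespace GrothLib.FilInj

variable {A : Type u} [Category.{v} A] [Abelian A]

attribute [local instance] Abelian.hasFiniteBiproducts

lemma biprod_total_app (F G : ℤᵒᵖ ⥤ A) (P : ℤᵒᵖ) :
    (biprod.fst : F ⊞ G ⟶ F).app P ≫ (biprod.inl : F ⟶ F ⊞ G).app P +
      (biprod.snd : F ⊞ G ⟶ G).app P ≫ (biprod.inr : G ⟶ F ⊞ G).app P = 𝟙 _ := by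
  have := congrArg (fun t : F ⊞ G ⟶ F ⊞ G => t.app P) (biprod.total (X := F) (Y := G))
  simp only [NatTrans.app_add, NatTrans.comp_app, NatTrans.id_app] at this
  exact this

lemma biprod_app_ext {F G : ℤᵒᵖ ⥤ A} {P : ℤᵒᵖ} {T : A} (x y : T ⟶ (F ⊞ G).obj P)
    (h1 : x ≫ (biprod.fst : F ⊞ G ⟶ F).app P = y ≫ (biprod.fst : F ⊞ G ⟶ F).app P)
    (h2 : x ≫ (biprod.snd : F ⊞ G ⟶ G).app P = y ≫ (biprod.snd : F ⊞ G ⟶ G).app P) : x = y := by
  rw [← Category.comp_id x, ← Category.comp_id y, ← biprod_total_app F G P, Preadditive.comp_add,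
    Preadditive.comp_add, reassoc_of% h1, reassoc_of% h2]

lemma isFinFil_biprod {F G : ℤᵒᵖ ⥤ A} (hF : FilD.IsFinFil A F) (hG : FilD.IsFinFil A G) :
    FilD.IsFinFil A (F ⊞ G) := by
  obtain ⟨hmF, ⟨bF, hbF⟩, ⟨aF, haF⟩⟩ := hF
  obtain ⟨hmG, ⟨bG, hbG⟩, ⟨aG, haG⟩⟩ := hG
  refine ⟨fun P Q f => ?_, ⟨max bF bG, fun p hp => ?_⟩, ⟨min aF aG, fun P Q f hP => ?_⟩⟩
  · refine Preadditive.mono_of_cancel_zero _ fun {T} x hx => biprod_app_ext x 0 ?_ ?_
    · have := hmF f
      rw [zero_comp, ← cancel_mono (F.map f), zero_comp, Category.assoc,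
        ← (biprod.fst : F ⊞ G ⟶ F).naturality, reassoc_of% hx, zero_comp]
    · have := hmG f
      rw [zero_comp, ← cancel_mono (G.map f), zero_comp, Category.assoc,
        ← (biprod.snd : F ⊞ G ⟶ G).naturality, reassoc_of% hx, zero_comp]
  · exact (IsZero.iff_id_eq_zero _).2 (biprod_app_ext _ _ ((hbF p (le_of_max_le_left hp)).eq_of_tgt _ _)
      ((hbG p (le_of_max_le_right hp)).eq_of_tgt _ _))
  · have := haF f (hP.trans (min_le_left _ _))
    have := haG f (hP.trans (min_le_right _ _))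
    refine ⟨(biprod.fst : F ⊞ G ⟶ F).app Q ≫ inv (F.map f) ≫ (biprod.inl : F ⟶ F ⊞ G).app P +
      (biprod.snd : F ⊞ G ⟶ G).app Q ≫ inv (G.map f) ≫ (biprod.inr : G ⟶ F ⊞ G).app P, ?_, ?_⟩
    · rw [Preadditive.comp_add, (biprod.fst : F ⊞ G ⟶ F).naturality_assoc,
        (biprod.snd : F ⊞ G ⟶ G).naturality_assoc, IsIso.hom_inv_id_assoc, IsIso.hom_inv_id_assoc,
        biprod_total_app]
    · rw [Preadditive.add_comp, Category.assoc, Category.assoc, Category.assoc, Category.assoc,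
        ← (biprod.inl : F ⟶ F ⊞ G).naturality, ← (biprod.inr : G ⟶ F ⊞ G).naturality,
        IsIso.inv_hom_id_assoc, IsIso.inv_hom_id_assoc, biprod_total_app]

instance hasBinaryBiproducts_filF : HasBinaryBiproducts (FilD.FilF A) := ⟨fun X Y => by
  let Z : FilD.FilF A := ⟨X.obj ⊞ Y.obj, isFinFil_biprod X.property Y.property⟩
  let b : BinaryBicone X Y :=
    { pt := Z
      fst := ObjectProperty.homMk biprod.fst
      snd := ObjectProperty.homMk biprod.snd
      inl := ObjectProperty.homMk biprod.inl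
      inr := ObjectProperty.homMk biprod.inr
      inl_fst := ObjectProperty.hom_ext _ biprod.inl_fst
      inl_snd := ObjectProperty.hom_ext _ biprod.inl_snd
      inr_fst := ObjectProperty.hom_ext _ biprod.inr_fst
      inr_snd := ObjectProperty.hom_ext _ biprod.inr_snd }
  exact HasBinaryBiproduct.mk ⟨b, isBinaryBilimitOfTotal b (ObjectProperty.hom_ext _ biprod.total)⟩⟩

/-- The levelwise cokernel of a strict map is a finite filtered object. -/
theorem isFinFil_cokernel {P C : FilD.FilF A} (D : P ⟶ C) (hD : Str D) :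
    FilD.IsFinFil A (cokernel D.hom) := by
  obtain ⟨b, hb⟩ := C.property.2.1
  obtain ⟨a, ha⟩ := C.property.2.2
  obtain ⟨a', ha'⟩ := P.property.2.2
  have hπ : ∀ Q, Epi ((cokernel.π D.hom).app Q) := fun Q => inferInstance
  have hcol : ∀ Q, IsColimit (CokernelCofork.ofπ ((cokernel.π D.hom).app Q)
      (by rw [← NatTrans.comp_app, cokernel.condition, NatTrans.app_zero]) : CokernelCofork (D.hom.app Q)) :=
    fun Q => CokernelCofork.mapIsColimit _ (cokernelIsCokernel D.hom) ((evaluation ℤᵒᵖ A).obj Q)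
  have hex : ∀ Q, (ShortComplex.mk (D.hom.app Q) ((cokernel.π D.hom).app Q)
      (by rw [← NatTrans.comp_app, cokernel.condition, NatTrans.app_zero])).Exact := fun Q =>
    ShortComplex.exact_of_g_is_cokernel _ (hcol Q)
  have hmono : ∀ ⦃R Q : ℤᵒᵖ⦄ (f : R ⟶ Q), Mono ((cokernel D.hom).map f) := by
    intro R Q f
    refine Preadditive.mono_of_cancel_zero _ fun {T} x hx => ?_
    obtain ⟨T₁, π₁, _, c, hc⟩ := surjective_up_to_refinements_of_epi ((cokernel.π D.hom).app R) x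
    obtain ⟨T₂, π₂, _, (y : T₂ ⟶ P.obj.obj Q), hy⟩ := (hex Q).exact_up_to_refinements (c ≫ C.obj.map f) (by
      change (c ≫ C.obj.map f) ≫ (cokernel.π D.hom).app Q = 0
      rw [Category.assoc, (cokernel.π D.hom).naturality, ← reassoc_of% hc, hx, comp_zero])
    change π₂ ≫ c ≫ C.obj.map f = y ≫ D.hom.app Q at hy
    obtain ⟨T₃, π₃, _, y', hy'⟩ := hD Q.unop R.unop (leOfHom f.unop) y (π₂ ≫ c) (by
      rw [Category.assoc]; exact hy.symm)
    rw [← cancel_epi π₁, comp_zero, hc, ← cancel_epi π₂, comp_zero, ← cancel_epi π₃, comp_zero,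
      ← Category.assoc π₂, ← Category.assoc π₃]
    change (π₃ ≫ π₂ ≫ c) ≫ (cokernel.π D.hom).app R = 0
    rw [← hy', Category.assoc]
    exact (congrArg (y' ≫ ·) ((congrArg (fun t : P.obj ⟶ cokernel D.hom => t.app R)
      (cokernel.condition D.hom)))).trans comp_zero
  refine ⟨hmono, ⟨b, fun p hp => IsZero.of_epi ((cokernel.π D.hom).app (op p)) (hb p hp)⟩,
    ⟨min a a', fun R Q f hR => ?_⟩⟩
  have := ha f (hR.trans (min_le_left _ _))
  have := hmono f
  have : Epi ((cokernel D.hom).map f) := by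
    have : Epi ((cokernel.π D.hom).app R ≫ (cokernel D.hom).map f) := by
      rw [← (cokernel.π D.hom).naturality]; infer_instance
    exact epi_of_epi ((cokernel.π D.hom).app R) _
  exact isIso_of_mono_of_epi _

/-- A map killed by `D` and whose kernel on graded pieces is the image of `D`. -/
theorem exists_embed_cokernel [EnoughInjectives A] {P C : FilD.FilF A} (D : P ⟶ C) (hD : Str D) :
    ∃ (I : FilD.FilF A) (β : C ⟶ I), FilD.IsFilteredInjective I ∧ D ≫ β = 0 ∧
      ∀ (p : ℤ) {T : A} (w : T ⟶ (FilD.grF A p).obj C), w ≫ (FilD.grF A p).map β = 0 →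
        ∃ (T' : A) (π : T' ⟶ T) (_ : Epi π) (v : T' ⟶ (FilD.grF A p).obj P),
          π ≫ w = v ≫ (FilD.grF A p).map D := by
  let Q : FilD.FilF A := ⟨cokernel D.hom, isFinFil_cokernel D hD⟩
  let π₀ : C ⟶ Q := ObjectProperty.homMk (cokernel.π D.hom)
  obtain ⟨I, e, hI, -, he, hem⟩ := exists_embed Q
  have hcond : D ≫ π₀ = 0 := ObjectProperty.hom_ext _ (cokernel.condition D.hom)
  refine ⟨I, π₀ ≫ e, hI, by rw [reassoc_of% hcond, zero_comp], fun p T w hw => ?_⟩
  obtain ⟨T₁, π₁, _, c, hc⟩ := surjective_up_to_refinements_of_epi (grπ C p) w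
  obtain ⟨z, hz⟩ := exists_of_grπ_eq_zero p (c ≫ (π₀ ≫ e).hom.app (op p)) (by
    rw [Category.assoc, grπ_naturality, ← reassoc_of% hc, hw, comp_zero])
  obtain ⟨T₂, π₂, _, q', hq'⟩ := he p (p + 1) (le1 p) (c ≫ π₀.hom.app (op p)) z (by
    rw [hz, Category.assoc]; rfl)
  obtain ⟨T₃, π₃, _, (c' : T₃ ⟶ C.obj.obj (op (p + 1))), hc'⟩ :=
    surjective_up_to_refinements_of_epi ((cokernel.π D.hom).app (op (p + 1))) q'
  change π₃ ≫ q' = c' ≫ π₀.hom.app (op (p + 1)) at hc'
  have key : (π₃ ≫ π₂ ≫ c - c' ≫ tm C (le1 p)) ≫ π₀.hom.app (op p) = 0 := by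
    have := hem p
    rw [← cancel_mono (e.hom.app (op p)), zero_comp, Category.assoc, Preadditive.sub_comp, Category.assoc,
      Category.assoc, Category.assoc, reassoc_of% (tm_app π₀ (le1 p)), tm_app, ← reassoc_of% hc',
      reassoc_of% hq', hz]
    exact sub_eq_zero.2 rfl
  have hex : (ShortComplex.mk (D.hom.app (op p)) ((cokernel.π D.hom).app (op p))
      (by rw [← NatTrans.comp_app, cokernel.condition, NatTrans.app_zero])).Exact :=
    ShortComplex.exact_of_g_is_cokernel _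
      (CokernelCofork.mapIsColimit _ (cokernelIsCokernel D.hom) ((evaluation ℤᵒᵖ A).obj (op p)))
  obtain ⟨T₄, π₄, _, (y : T₄ ⟶ P.obj.obj (op p)), hy⟩ := hex.exact_up_to_refinements _ key
  change π₄ ≫ (π₃ ≫ π₂ ≫ c - c' ≫ tm C (le1 p)) = y ≫ D.hom.app (op p) at hy
  refine ⟨T₄, π₄ ≫ π₃ ≫ π₂ ≫ π₁, inferInstance, y ≫ grπ P p, ?_⟩
  rw [Category.assoc y, ← grπ_naturality, ← reassoc_of% hy, Preadditive.sub_comp, Category.assoc c',
    tm_grπ, comp_zero, sub_zero]
  simp only [Category.assoc, hc]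

end GrothLib.FilInj
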