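import Groth.Agent.Lib.FilInj.Strict

/-!
# Strict embeddings into filtered injective objects
-/

universe v u

open CategoryTheory Limits Opposite

namespace GrothLib.FilInj

variable {A : Type u} [Category.{v} A] [Abelian A]

attribute [local instance] Abelian.hasFiniteBiproducts

section Step

variable (J : A) (c : ℤ)

/-- `J` placed in degree `c`, as a filtration functor. -/
noncomputable def stepF : ℤᵒᵖ ⥤ A where
  obj s := ∐ fun _ : PLift (s.unop ≤ c) => J
  map {P Q} f := Sigma.desc fun h =>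
    Sigma.ι (fun _ : PLift (Q.unop ≤ c) => J) ⟨(leOfHom f.unop).trans h.down⟩
  map_id P := Sigma.hom_ext _ _ fun h => by simp
  map_comp f g := Sigma.hom_ext _ _ fun h => by simp

/-- The fold map. -/
noncomputable def fold (s : ℤᵒᵖ) : (stepF J c).obj s ⟶ J := Sigma.desc fun _ => 𝟙 J

lemma map_fold {P Q : ℤᵒᵖ} (f : P ⟶ Q) : (stepF J c).map f ≫ fold J c Q = fold J c P :=
  Sigma.hom_ext _ _ fun h => by simp [stepF, fold]

lemma ι_fold {s : ℤᵒᵖ} (h : PLift (s.unop ≤ c)) :
    Sigma.ι (fun _ : PLift (s.unop ≤ c) => J) h ≫ fold J c s = 𝟙 J := Sigma.ι_desc _ _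

lemma isIso_fold {s : ℤᵒᵖ} (h : s.unop ≤ c) : IsIso (fold J c s) :=
  ⟨Sigma.ι (fun _ : PLift (s.unop ≤ c) => J) ⟨h⟩,
    Sigma.hom_ext _ _ fun h' => by
      obtain rfl : h' = ⟨h⟩ := Subsingleton.elim _ _
      exact (Category.assoc _ _ _).symm.trans ((congrArg (· ≫ _) (ι_fold J c ⟨h⟩)).trans
        ((Category.id_comp _).trans (Category.comp_id _).symm)),
    ι_fold J c ⟨h⟩⟩

/-- The inclusion in degrees below `c`. -/
noncomputable def inc {s : ℤᵒᵖ} (h : s.unop ≤ c) : J ⟶ (stepF J c).obj s :=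
  Sigma.ι (fun _ : PLift (s.unop ≤ c) => J) ⟨h⟩

lemma inc_fold {s : ℤᵒᵖ} (h : s.unop ≤ c) : inc J c h ≫ fold J c s = 𝟙 J := ι_fold J c ⟨h⟩

lemma isZero_stepF {s : ℤᵒᵖ} (h : ¬ s.unop ≤ c) : IsZero ((stepF J c).obj s) :=
  (IsZero.iff_id_eq_zero _).2 (Sigma.hom_ext _ _ fun h' => absurd h'.down h)

lemma mono_fold (s : ℤᵒᵖ) : Mono (fold J c s) := by
  by_cases h : s.unop ≤ c
  · have := isIso_fold J c h
    infer_instance
  · exact (isZero_stepF J c h).mono _

lemma isFinFil_stepF : FilD.IsFinFil A (stepF J c) := by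
  refine ⟨fun P Q f => ?_, ⟨c + 1, fun p hp => isZero_stepF J c (by simp; omega)⟩, ⟨c, fun P Q f hP => ?_⟩⟩
  · have := mono_fold J c P
    exact mono_of_mono_fac (map_fold J c f)
  · have := isIso_fold J c hP
    have := isIso_fold J c ((leOfHom f.unop).trans hP)
    exact IsIso.of_isIso_fac_right (map_fold J c f)

lemma injective_gr_stepF [Injective J] (p : ℤ) : Injective ((FilD.gr A p).obj (stepF J c)) := by
  change Injective (cokernel ((stepF J c).map (FilD.stepHom p)))
  rcases lt_trichotomy p c with h | rfl | h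
  · have : IsIso ((stepF J c).map (FilD.stepHom p)) := by
      have := isIso_fold J c (s := op p) (by simp; omega)
      have := isIso_fold J c (s := op (p + 1)) (by simp; omega)
      exact IsIso.of_isIso_fac_right (map_fold J c (FilD.stepHom p))
    exact (isZero_cokernel_of_epi _).injective
  · have h0 : (stepF J p).map (FilD.stepHom p) = 0 :=
      (isZero_stepF J p (s := op (p + 1)) (by simp)).eq_of_src _ _
    have := isIso_fold J p (s := op p) (by simp)
    rw [h0]
    exact Injective.of_iso ((asIso (fold J p (op p))).symm ≪≫ cokernelZeroIsoTarget.symm) inferInstance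
  · exact (IsZero.of_epi (cokernel.π _) (isZero_stepF J c (s := op p) (by simp; omega))).injective

/-- The map into `stepF` given by a family of compatible maps. -/
noncomputable def toStepF (F : ℤᵒᵖ ⥤ A) (e : ∀ s : ℤᵒᵖ, F.obj s ⟶ J)
    (he : ∀ {P Q : ℤᵒᵖ} (f : P ⟶ Q), Q.unop ≤ c → F.map f ≫ e Q = if P.unop ≤ c then e P else 0) :
    F ⟶ stepF J c where
  app s := if h : s.unop ≤ c then e s ≫ inc J c h else 0
  naturality P Q f := by
    have := mono_fold J c Q
    rw [← cancel_mono (fold J c Q), Category.assoc, Category.assoc, map_fold]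
    by_cases hQ : Q.unop ≤ c
    · rw [dif_pos hQ]
      by_cases hP : P.unop ≤ c
      · rw [dif_pos hP, Category.assoc, Category.assoc, inc_fold, inc_fold, Category.comp_id, Category.comp_id,
          he f hQ, if_pos hP]
      · rw [dif_neg hP, Category.assoc, inc_fold, Category.comp_id, he f hQ, if_neg hP, zero_comp]
    · rw [dif_neg hQ, dif_neg (fun hP => hQ ((leOfHom f.unop).trans hP))]
      simp

end Step

lemma isFinFil_biproduct {n : ℕ} (F : Fin n → (ℤᵒᵖ ⥤ A)) (hF : ∀ i, FilD.IsFinFil A (F i)) :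
    FilD.IsFinFil A (⨁ F) := by
  choose hm hb ha using hF
  choose b hb using hb
  choose a ha using ha
  have hext : ∀ (P : ℤᵒᵖ) {T : A} (x y : T ⟶ (⨁ F).obj P),
      (∀ i, x ≫ (biproduct.π F i).app P = y ≫ (biproduct.π F i).app P) → x = y := fun P {T} x y h => by
    have key : 𝟙 ((⨁ F).obj P) = ∑ i, (biproduct.π F i).app P ≫ (biproduct.ι F i).app P := by
      have := congrArg (fun t : (⨁ F) ⟶ (⨁ F) => t.app P) (biproduct.total (f := F))
      simp only [NatTrans.app_sum, NatTrans.comp_app, NatTrans.id_app] at this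
      exact this.symm
    rw [← Category.comp_id x, ← Category.comp_id y, key, Preadditive.comp_sum, Preadditive.comp_sum]
    exact Finset.sum_congr rfl fun i _ => by rw [← Category.assoc, h i, Category.assoc]
  refine ⟨fun P Q f => ?_, ?_, ?_⟩
  · refine Preadditive.mono_of_cancel_zero _ fun {T} x hx => hext P x 0 fun i => ?_
    have := hm i f
    rw [zero_comp, ← cancel_mono ((F i).map f), zero_comp, Category.assoc, ← (biproduct.π F i).naturality,
      reassoc_of% hx, zero_comp]
  · obtain ⟨B, hB⟩ := (Set.finite_range b).bddAbove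
    refine ⟨B, fun p hp => (IsZero.iff_id_eq_zero _).2 (hext _ _ _ fun i => ?_)⟩
    exact (hb i p ((hB ⟨i, rfl⟩).trans hp)).eq_of_tgt _ _
  · obtain ⟨B, hB⟩ := (Set.finite_range a).bddBelow
    refine ⟨B, fun P Q f hP => ?_⟩
    have hi : ∀ i, IsIso ((F i).map f) := fun i => ha i f (hP.trans (hB ⟨i, rfl⟩))
    refine ⟨∑ i, (biproduct.π F i).app Q ≫ inv ((F i).map f) ≫ (biproduct.ι F i).app P, ?_, ?_⟩
    · have := congrArg (fun t : (⨁ F) ⟶ (⨁ F) => t.app P) (biproduct.total (f := F))
      simp only [NatTrans.app_sum, NatTrans.comp_app, NatTrans.id_app] at this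
      rw [Preadditive.comp_sum, ← this]
      exact Finset.sum_congr rfl fun i _ => by rw [(biproduct.π F i).naturality_assoc, IsIso.hom_inv_id_assoc]
    · have := congrArg (fun t : (⨁ F) ⟶ (⨁ F) => t.app Q) (biproduct.total (f := F))
      simp only [NatTrans.app_sum, NatTrans.comp_app, NatTrans.id_app] at this
      rw [Preadditive.sum_comp, ← this]
      exact Finset.sum_congr rfl fun i _ => by
        rw [Category.assoc, Category.assoc, ← (biproduct.ι F i).naturality, IsIso.inv_hom_id_assoc]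

lemma injective_gr_biproduct {n : ℕ} (F : Fin n → (ℤᵒᵖ ⥤ A)) (p : ℤ)
    (hF : ∀ i, Injective ((FilD.gr A p).obj (F i))) : Injective ((FilD.gr A p).obj (⨁ F)) := by
  refine ⟨fun {P Q} g f _ => ⟨∑ i, Injective.factorThru (g ≫ (FilD.gr A p).map (biproduct.π F i)) f ≫
    (FilD.gr A p).map (biproduct.ι F i), ?_⟩⟩
  rw [Preadditive.comp_sum]
  simp only [Injective.comp_factorThru_assoc, Category.assoc, ← Functor.map_comp]
  rw [← Preadditive.comp_sum, ← Functor.map_sum, biproduct.total, CategoryTheory.Functor.map_id, Category.comp_id]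

section Criteria

variable {X Y : FilD.FilF A} (u : X ⟶ Y)
  (H : ∀ (p : ℤ) {T : A} (x : T ⟶ X.obj.obj (op p)) (z : T ⟶ Y.obj.obj (op (p + 1))),
    x ≫ u.hom.app (op p) = z ≫ tm Y (le1 p) → x ≫ grπ X p = 0)

include H in
/-- Injectivity on graded pieces gives strictness. -/
theorem str_of_gr_mono : Str u := str_of_step u fun p T y z e => by
  obtain ⟨y', hy'⟩ := exists_of_grπ_eq_zero p y (H p y z e)
  refine ⟨T, 𝟙 T, inferInstance, y', ?_⟩
  rw [← cancel_mono (tm Y (le1 p)), Category.assoc, ← tm_app, reassoc_of% hy', e, Category.id_comp]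

include H in
/-- Injectivity on graded pieces gives injectivity. -/
theorem mono_app_of_gr_mono (p : ℤ) : Mono (u.hom.app (op p)) := by
  obtain ⟨b, hb⟩ := X.property.2.1
  suffices ∀ (k : ℕ) (p : ℤ), b ≤ p + k → Mono (u.hom.app (op p)) from this (b - p).toNat p (by omega)
  intro k
  induction k with
  | zero => intro p hp; exact (hb p (by omega)).mono _
  | succ k ih =>
    intro p hp
    have := ih (p + 1) (by omega)
    refine Preadditive.mono_of_cancel_zero _ fun {T} x hx => ?_
    obtain ⟨x', rfl⟩ := exists_of_grπ_eq_zero p x (H p x 0 (by rw [hx, zero_comp]))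
    rw [Category.assoc, tm_app, ← Category.assoc, ← zero_comp (Y := Y.obj.obj (op (p + 1))) (f := tm Y (le1 p)),
      cancel_mono, ← zero_comp (f := u.hom.app (op (p + 1))), cancel_mono] at hx
    rw [hx, zero_comp]

include H in
theorem mono_of_gr_mono : Mono u := ⟨fun {Z} g h e => by
  ext P
  have := mono_app_of_gr_mono u H P.unop
  exact (cancel_mono (u.hom.app (op P.unop))).1
    (congrArg (fun φ : Z ⟶ Y => φ.hom.app (op P.unop)) e)⟩

end Criteria

/-- Every finite filtered object embeds strictly into a filtered injective object. -/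
theorem exists_embed [EnoughInjectives A] (X : FilD.FilF A) :
    ∃ (I : FilD.FilF A) (u : X ⟶ I), FilD.IsFilteredInjective I ∧ Mono u ∧ Str u ∧
      ∀ p, Mono (u.hom.app (op p)) := by
  obtain ⟨b₀, hb₀⟩ := X.property.2.1
  obtain ⟨a, ha⟩ := X.property.2.2
  let n := (b₀ - a).toNat
  let c : Fin n → ℤ := fun i => a + i
  let J : Fin n → A := fun i => Injective.under ((FilD.grF A (c i)).obj X)
  have hac : ∀ i, a ≤ c i := fun i => by simp [c]
  let E : ∀ i, X.obj.obj (op a) ⟶ J i := fun i =>
    Injective.factorThru (grπ X (c i) ≫ Injective.ι _) (tm X (hac i))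
  have hE : ∀ i, tm X (hac i) ≫ E i = grπ X (c i) ≫ Injective.ι _ := fun i => Injective.comp_factorThru _ _
  let τ : ∀ s : ℤ, X.obj.obj (op s) ⟶ X.obj.obj (op a) := fun s =>
    haveI : IsIso (tm X (min_le_left a s)) := ha _ le_rfl
    tm X (min_le_right a s) ≫ inv (tm X (min_le_left a s))
  have hτ : ∀ {s t : ℤ} (h : s ≤ t), tm X h ≫ τ s = τ t := fun {s t} h => by
    have : IsIso (tm X (min_le_left a s)) := ha _ le_rfl
    have : IsIso (tm X (min_le_left a t)) := ha _ le_rfl
    have h' : min a s ≤ min a t := min_le_min_left a h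
    simp only [τ]
    rw [← Category.assoc, tm_tm, IsIso.comp_inv_eq, Category.assoc,
      show tm X (min_le_left a s) = tm X (min_le_left a t) ≫ tm X h' from (tm_tm X _ _).symm,
      IsIso.inv_hom_id_assoc, tm_tm]
  have hτa : ∀ {t : ℤ} (h : a ≤ t), τ t = tm X h := fun {t} h => by
    have : IsIso (tm X (min_le_left a t)) := ha _ le_rfl
    simp only [τ]
    rw [IsIso.comp_inv_eq, tm_tm]
  have hkill : ∀ i (s : ℤ), c i < s → τ s ≫ E i = 0 := fun i s hs => by
    rw [hτa ((hac i).trans hs.le), ← tm_tm X (hac i) hs.le, Category.assoc, hE,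
      ← tm_tm X (le1 (c i)) (show c i + 1 ≤ s by omega), Category.assoc, reassoc_of% (tm_grπ X (c i)),
      zero_comp, comp_zero]
  let F : Fin n → (ℤᵒᵖ ⥤ A) := fun i => stepF (J i) (c i)
  let e : ∀ i, X.obj ⟶ F i := fun i => toStepF (J i) (c i) X.obj (fun s => τ s.unop ≫ E i) fun {P Q} f hQ => by
    change tm X (leOfHom f.unop) ≫ τ Q.unop ≫ E i = _
    rw [← Category.assoc, hτ]
    split_ifs with hP
    · rfl
    · exact hkill i _ (not_le.1 hP)
  let I : FilD.FilF A := ⟨⨁ F, isFinFil_biproduct F fun i => isFinFil_stepF _ _⟩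
  let u : X ⟶ I := ObjectProperty.homMk (biproduct.lift e)
  have H : ∀ (p : ℤ) {T : A} (x : T ⟶ X.obj.obj (op p)) (z : T ⟶ I.obj.obj (op (p + 1))),
      x ≫ u.hom.app (op p) = z ≫ tm I (le1 p) → x ≫ grπ X p = 0 := by
    intro p T x z e0
    rcases lt_or_ge p a with hpa | hpa
    · have : IsIso (tm X (le1 p)) := ha _ (show p + 1 ≤ a by omega)
      exact (IsZero.of_iso (isZero_zero A) (cokernel.ofEpi (tm X (le1 p)))).eq_of_tgt _ _
    rcases lt_or_ge p b₀ with hpb | hpb
    swap
    · rw [(hb₀ p hpb).eq_of_tgt x 0, zero_comp]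
    let i : Fin n := ⟨(p - a).toNat, by omega⟩
    have hci : c i = p := by simp [c, i]; omega
    have h1 := congrArg (· ≫ (biproduct.π F i).app (op p) ≫ fold (J i) (c i) (op p)) e0
    have h2 : tm I (le1 p) ≫ (biproduct.π F i).app (op p) =
        (biproduct.π F i).app (op (p + 1)) ≫ (F i).map (homOfLE (le1 p)).op := (biproduct.π F i).naturality _
    have h3 : (F i).map (homOfLE (le1 p)).op = 0 :=
      (isZero_stepF (J i) (c i) (s := op (p + 1)) (by simp; omega)).eq_of_src _ _
    have h4 : u.hom.app (op p) ≫ (biproduct.π F i).app (op p) = (e i).app (op p) :=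
      congrArg (fun t : X.obj ⟶ F i => t.app (op p)) (biproduct.lift_π e i)
    have h5 : (e i).app (op p) ≫ fold (J i) (c i) (op p) = τ p ≫ E i := by
      change (dite _ _ _) ≫ _ = _
      rw [dif_pos (show p ≤ c i by omega), Category.assoc, inc_fold, Category.comp_id]
    simp only [Category.assoc, reassoc_of% h4, h5, reassoc_of% h2, h3, zero_comp, comp_zero] at h1
    have h8 : (x ≫ tm X (le_of_eq hci)) ≫ grπ X (c i) = 0 := by
      rw [← cancel_mono (Injective.ι ((FilD.grF A (c i)).obj X)), zero_comp, Category.assoc, Category.assoc,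
        ← hE, ← Category.assoc (tm X _), tm_tm, ← hτa hpa]
      exact h1
    have h9 : ∀ (q : ℤ) (hq : q = p), (x ≫ tm X (le_of_eq hq)) ≫ grπ X q = 0 → x ≫ grπ X p = 0 := by
      intro q hq
      subst hq
      rw [tm_self, Category.comp_id]
      exact id
    exact h9 (c i) hci h8
  refine ⟨I, u, fun p => injective_gr_biproduct F p fun i => ?_, mono_of_gr_mono u H, str_of_gr_mono u H,
    mono_app_of_gr_mono u H⟩
  exact injective_gr_stepF (J i) (c i) p

end GrothLib.FilInj
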