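import Groth.Prelude.Def_FilD
import Mathlib

/-!
# Extension along strict monomorphisms into filtered injective objects
-/

universe v u

open CategoryTheory Limits Opposite

namespace GrothLib.FilInj

variable {A : Type u} [Category.{v} A] [Abelian A]

/-- A monomorphism of finite filtered objects is a monomorphism in each degree. -/
lemma mono_app {X Y : FilD.FilF A} (u : X ⟶ Y) [Mono u] (P : ℤᵒᵖ) : Mono (u.hom.app P) := by
  let K := kernel u.hom
  let ι := kernel.ι u.hom
  have hι : ∀ Q, Mono (ι.app Q) := fun Q => inferInstance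
  have hlim : ∀ Q, IsLimit (KernelFork.ofι (ι.app Q)
      (by rw [← NatTrans.comp_app, kernel.condition, NatTrans.app_zero]) :
        KernelFork (u.hom.app Q)) := fun Q =>
    KernelFork.mapIsLimit _ (kernelIsKernel u.hom) ((evaluation ℤᵒᵖ A).obj Q)
  have hK : FilD.IsFinFil A K := by
    refine ⟨fun p q f => ?_, ?_, ?_⟩
    · haveI := hι p
      haveI := X.property.1 f
      haveI : Mono (ι.app p ≫ X.obj.map f) := mono_comp _ _
      haveI : Mono (K.map f ≫ ι.app q) := by rw [ι.naturality]; infer_instance
      exact mono_of_mono (K.map f) (ι.app q)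
    · obtain ⟨b, hb⟩ := X.property.2.1
      exact ⟨b, fun p hp => haveI := hι (op p); IsZero.of_mono (ι.app (op p)) (hb p hp)⟩
    · obtain ⟨a, ha⟩ := X.property.2.2
      refine ⟨a, fun p q f hp => ?_⟩
      haveI := ha f hp
      haveI := Y.property.1 f
      obtain ⟨l, hl⟩ : ∃ l, l ≫ ι.app p = ι.app q ≫ inv (X.obj.map f) := by
        refine ⟨(hlim p).lift (KernelFork.ofι (ι.app q ≫ inv (X.obj.map f)) ?_),
          (hlim p).fac _ WalkingParallelPair.zero⟩
        rw [← cancel_mono (Y.obj.map f), zero_comp, Category.assoc, Category.assoc,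
          ← u.hom.naturality, IsIso.inv_hom_id_assoc, ← NatTrans.comp_app, kernel.condition,
          NatTrans.app_zero]
      haveI := hι p
      haveI := hι q
      refine ⟨l, ?_, ?_⟩
      · rw [← cancel_mono (ι.app p), Category.assoc, hl, Category.id_comp,
          ← Category.assoc, ι.naturality, Category.assoc, IsIso.hom_inv_id, Category.comp_id]
      · rw [← cancel_mono (ι.app q), Category.assoc, ι.naturality, ← Category.assoc, hl,
          Category.assoc, IsIso.inv_hom_id, Category.comp_id, Category.id_comp]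
  let k : (⟨K, hK⟩ : FilD.FilF A) ⟶ X := ObjectProperty.homMk ι
  have hk : k ≫ u = 0 ≫ u := by
    ext Q
    simp [k, ι, ← NatTrans.comp_app]
  have h0 : ι = 0 := congrArg InducedCategory.Hom.hom ((cancel_mono u).1 hk)
  exact Preadditive.mono_of_isZero_kernel' _ (hlim P)
    ((IsZero.iff_id_eq_zero _).2 ((cancel_mono (ι.app P)).1 (by
      haveI := hι P
      simp [h0])))

/-- The transition map `F (p+1) ⟶ F p`. -/
noncomputable abbrev st (X : FilD.FilF A) (p : ℤ) : X.obj.obj (op (p + 1)) ⟶ X.obj.obj (op p) :=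
  X.obj.map (FilD.stepHom p)

lemma injective_obj {I : FilD.FilF A} (hI : FilD.IsFilteredInjective I) (p : ℤ) :
    Injective (I.obj.obj (op p)) := by
  obtain ⟨b, hb⟩ := I.property.2.1
  suffices ∀ (k : ℕ) (p : ℤ), b ≤ p + k → Injective (I.obj.obj (op p)) from
    this (b - p).toNat p (by omega)
  intro k
  induction k with
  | zero => intro p hp; exact (hb p (by omega)).injective
  | succ k ih =>
    intro p hp
    haveI := ih (p + 1) (by omega)
    haveI : Mono (st I p) := I.property.1 _
    haveI : Injective (cokernel (st I p)) := hI p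
    let S : ShortComplex A := ShortComplex.mk (st I p) (cokernel.π _) (cokernel.condition _)
    have hS : S.ShortExact := { exact := ShortComplex.exact_cokernel _ }
    haveI : IsSplitMono S.f :=
      IsSplitMono.mk' ⟨Injective.factorThru (𝟙 _) (st I p), Injective.comp_factorThru _ _⟩
    let sp := ShortComplex.Splitting.ofExactOfRetraction S hS.exact (retraction S.f)
      (IsSplitMono.id S.f) hS.epi_g
    refine ⟨fun {A' B'} h m _ => ?_⟩
    refine ⟨Injective.factorThru (h ≫ sp.r) m ≫ S.f + Injective.factorThru (h ≫ S.g) m ≫ sp.s, ?_⟩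
    rw [Preadditive.comp_add, Injective.comp_factorThru_assoc, Injective.comp_factorThru_assoc,
      Category.assoc, Category.assoc, ← Preadditive.comp_add, sp.id]
    exact Category.comp_id h

variable {X Y I : FilD.FilF A} (u : X ⟶ Y) (hu : FilD.IsStrict u) (hI : FilD.IsFilteredInjective I)
  (f : X ⟶ I)

/-- Partial extensions in a given degree. -/
def Ext' (p : ℤ) := { g : Y.obj.obj (op p) ⟶ I.obj.obj (op p) // u.hom.app (op p) ≫ g = f.hom.app (op p) }

include hu hI in
lemma exists_step [Mono u] (p : ℤ) (g : Ext' u f (p + 1)) :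
    ∃ g' : Ext' u f p, st Y p ≫ g'.1 = g.1 ≫ st I p := by
  haveI := mono_app u (op p)
  haveI : Mono (st Y p) := Y.property.1 _
  let φ : X.obj.obj (op (p + 1)) ⟶ Y.obj.obj (op (p + 1)) ⊞ X.obj.obj (op p) :=
    biprod.lift (u.hom.app _) (-(st X p))
  have nu : st X p ≫ u.hom.app (op p) = u.hom.app (op (p + 1)) ≫ st Y p := u.hom.naturality _
  have nf : st X p ≫ f.hom.app (op p) = f.hom.app (op (p + 1)) ≫ st I p := f.hom.naturality _
  let ψ : cokernel φ ⟶ Y.obj.obj (op p) :=
    cokernel.desc φ (biprod.desc (st Y p) (u.hom.app (op p))) (by simp [φ, nu])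
  let θ : cokernel φ ⟶ I.obj.obj (op p) :=
    cokernel.desc φ (biprod.desc (g.1 ≫ st I p) (f.hom.app (op p)))
      (by simp [φ, nf, reassoc_of% g.2])
  haveI : Mono ψ := by
    refine Preadditive.mono_of_cancel_zero _ fun {T} z hz => ?_
    obtain ⟨T₁, q₁, hq₁, w, hw⟩ := surjective_up_to_refinements_of_epi (cokernel.π φ) z
    let y := w ≫ biprod.fst
    let x := w ≫ biprod.snd
    have hyx : y ≫ st Y p + x ≫ u.hom.app (op p) = 0 := by
      have h1 := congrArg (q₁ ≫ ·) hz
      simp only [comp_zero, ← Category.assoc, hw] at h1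
      simpa [ψ, y, x, biprod.desc_eq] using h1
    -- strictness: `x u` comes from the deeper step
    have hfac : (imageSubobject (u.hom.app (op (p + 1)) ≫ Y.obj.map (homOfLE (Int.le_add_one le_rfl : p ≤ p + 1)).op)).Factors
        (x ≫ u.hom.app (op p)) := by
      rw [hu p (p + 1) (Int.le_add_one le_rfl), Subobject.inf_factors]
      refine ⟨imageSubobject_factors_comp_self _ _, ?_⟩
      rw [Subobject.mk_factors_iff]
      refine ⟨-y, ?_⟩
      exact (Preadditive.neg_comp _ _).trans (neg_eq_iff_add_eq_zero.2 hyx)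
    obtain ⟨T₂, q₂, hq₂, v, hv⟩ := surjective_up_to_refinements_of_epi
      (factorThruImageSubobject (u.hom.app (op (p + 1)) ≫
        Y.obj.map (homOfLE (Int.le_add_one le_rfl : p ≤ p + 1)).op)) (Subobject.factorThru _ _ hfac)
    have hv' : q₂ ≫ x ≫ u.hom.app (op p) = v ≫ u.hom.app (op (p + 1)) ≫ st Y p := by
      have := congrArg (· ≫ (imageSubobject _).arrow) hv
      simpa using! this
    have h2 : q₂ ≫ w = -(v ≫ φ) := by
      apply biprod.hom_ext
      · rw [Category.assoc, ← cancel_mono (st Y p), Category.assoc]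
        have := congrArg (q₂ ≫ ·) hyx
        simp only [Preadditive.comp_add, comp_zero, hv'] at this
        simp only [φ, Preadditive.neg_comp, Category.assoc, biprod.lift_fst]
        exact eq_neg_of_add_eq_zero_left (by simpa [y] using this)
      · rw [Category.assoc, ← cancel_mono (u.hom.app (op p)), Category.assoc]
        simp only [φ, Preadditive.neg_comp, Category.assoc, biprod.lift_snd_assoc,
          Preadditive.comp_neg, neg_neg, nu]
        simpa [x] using hv'
    rw [← cancel_epi q₁, ← cancel_epi q₂, comp_zero, comp_zero, hw, ← Category.assoc, h2]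
    simp
  haveI := injective_obj hI p
  refine ⟨⟨Injective.factorThru θ ψ, ?_⟩, ?_⟩
  · have e₁ : (biprod.inr ≫ cokernel.π φ) ≫ ψ = u.hom.app (op p) := by simp [ψ]
    have e₂ : (biprod.inr ≫ cokernel.π φ) ≫ θ = f.hom.app (op p) := by simp [θ]
    rw [← e₁, ← e₂, Category.assoc, Category.assoc, Category.assoc, Injective.comp_factorThru]
  · have e₁ : (biprod.inl ≫ cokernel.π φ) ≫ ψ = st Y p := by simp [ψ]
    have e₂ : (biprod.inl ≫ cokernel.π φ) ≫ θ = g.1 ≫ st I p := by simp [θ]
    change st Y p ≫ Injective.factorThru θ ψ = _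
    rw [← e₁, ← e₂, Category.assoc, Category.assoc, Category.assoc, Injective.comp_factorThru]

variable (b : ℤ) (hXb : ∀ p, b ≤ p → IsZero (X.obj.obj (op p)))

/-- The extension in each degree. -/
noncomputable def gs [Mono u] (p : ℤ) : Ext' u f p :=
  if h : b ≤ p then ⟨0, (hXb p h).eq_of_src _ _⟩
  else (exists_step u hu hI f p (gs (p + 1))).choose
termination_by (b - p).toNat
decreasing_by omega

include hu hI in
/-- Extension along a strict monomorphism into a filtered injective object. -/
theorem exists_extend [Mono u] : ∃ g : Y ⟶ I, u ≫ g = f := by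
  obtain ⟨b₁, hb₁⟩ := X.property.2.1
  obtain ⟨b₂, hb₂⟩ := Y.property.2.1
  let b := max b₁ b₂
  have hXb : ∀ p, b ≤ p → IsZero (X.obj.obj (op p)) := fun p hp => hb₁ p (by omega)
  let G := gs u hu hI f b hXb
  have hG : ∀ p, st Y p ≫ (G p).1 = (G (p + 1)).1 ≫ st I p := by
    intro p
    by_cases h : b ≤ p
    · exact (hb₂ (p + 1) (by omega)).eq_of_src _ _
    · simp only [G]
      conv_lhs => rw [gs, dif_neg h]
      exact (exists_step u hu hI f p _).choose_spec
  have hk : ∀ (k : ℕ) (p q : ℤ) (hpq : p ≤ q), q = p + k →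
      Y.obj.map (homOfLE hpq).op ≫ (G p).1 = (G q).1 ≫ I.obj.map (homOfLE hpq).op := by
    intro k
    induction k with
    | zero =>
      intro p q hpq hq
      obtain rfl : q = p := by omega
      rw [show (homOfLE hpq).op = 𝟙 (op q) from rfl, Y.obj.map_id, I.obj.map_id]
      simp
    | succ k ih =>
      intro p q hpq hq
      have h1 : p + 1 ≤ q := by omega
      have e : (homOfLE hpq).op = (homOfLE h1).op ≫ FilD.stepHom p := rfl
      rw [e, Y.obj.map_comp, I.obj.map_comp, Category.assoc, hG p, ← Category.assoc,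
        ih (p + 1) q h1 (by omega), Category.assoc]
  refine ⟨ObjectProperty.homMk
    { app := fun P => (G P.unop).1
      naturality := fun P Q φ => hk _ _ _ (leOfHom φ.unop) (by
        have := leOfHom φ.unop
        rw [Int.toNat_of_nonneg (show 0 ≤ P.unop - Q.unop by omega)]
        omega) }, ?_⟩
  ext P
  exact (G P.unop).2

end GrothLib.FilInj
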