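import Groth.Agent.Lib.FilInj.Biprod

/-!
# The horseshoe lemma for filtered injective resolutions
-/

universe v u

open CategoryTheory Limits Opposite

namespace GrothLib.FilInj

variable {A : Type u} [Category.{v} A] [Abelian A]

section Aug

variable {Z : FilD.FilF A} {J : CochainComplex (FilD.FilF A) ℤ}
  (c : (HomologicalComplex.single (FilD.FilF A) (ComplexShape.up ℤ) 0).obj Z ⟶ J)

/-- The augmentation. -/
noncomputable def aug : Z ⟶ J.X 0 :=
  (HomologicalComplex.singleObjXSelf (ComplexShape.up ℤ) 0 Z).inv ≫ c.f 0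

theorem single_f_zero : c.f 0 = (HomologicalComplex.singleObjXSelf (ComplexShape.up ℤ) 0 Z).hom ≫ aug c := by
  simp [aug]

theorem aug_d : aug c ≫ J.d 0 1 = 0 := by
  rw [aug, Category.assoc, c.comm 0 1]
  exact (congrArg (_ ≫ ·) ((congrArg (· ≫ c.f 1) (HomologicalComplex.single_obj_d _ _ _ _ _)).trans
    zero_comp)).trans comp_zero

variable (hc : FilD.IsFilteredQuasiIso c) [J.IsStrictlyGE 0]

include hc in
theorem mono_gr_aug (p : ℤ) : Mono ((FilD.grF A p).map (aug c)) := by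
  have := hc p
  have : Mono (HomologicalComplex.homologyMap ((FilD.grCx p).map c) 0) := inferInstance
  rw [HomologicalComplex.mono_homologyMap_iff_up_to_refinements _ (-1) 0 1 (by simp) (by simp)] at this
  refine Preadditive.mono_of_cancel_zero _ fun {T} x hx => ?_
  let e := (HomologicalComplex.singleObjXSelf (ComplexShape.up ℤ) 0 Z).inv
  obtain ⟨T', π, _, k, hk⟩ := this (x ≫ (FilD.grF A p).map e)
    (((FilD.grF A p).map_isZero (HomologicalComplex.isZero_single_obj_X _ _ _ _ (by omega))).eq_of_tgt _ _) 0 (by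
      refine Eq.trans ?_ zero_comp.symm
      change (x ≫ (FilD.grF A p).map e) ≫ (FilD.grF A p).map (c.f 0) = 0
      rw [Category.assoc, ← Functor.map_comp]
      exact hx)
  have h0 : k = 0 :=
    ((FilD.grF A p).map_isZero (HomologicalComplex.isZero_single_obj_X _ _ _ _ (by omega))).eq_of_tgt _ _
  rw [h0, zero_comp] at hk
  have : Mono ((FilD.grF A p).map e) := inferInstance
  rw [← cancel_epi π, comp_zero, ← cancel_mono ((FilD.grF A p).map e), zero_comp, Category.assoc]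
  exact hk

include hc in
theorem gr_exact_aug (p : ℤ) : ((ShortComplex.mk (aug c) (J.d 0 1) (aug_d c)).map (FilD.grF A p)).Exact := by
  refine (ShortComplex.exact_iff_exact_up_to_refinements _).2 fun T
    (y : T ⟶ (FilD.grF A p).obj (J.X 0)) hy => ?_
  have := hc p
  have : Epi (HomologicalComplex.homologyMap ((FilD.grCx p).map c) 0) := inferInstance
  rw [HomologicalComplex.epi_homologyMap_iff_up_to_refinements _ (-1) 0 1 (by simp) (by simp)] at this
  obtain ⟨T', π, hπ, x, -, k, hk⟩ := this y hy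
  have h0 : k = 0 :=
    ((FilD.grF A p).map_isZero (CochainComplex.isZero_of_isStrictlyGE J 0 (-1) (by omega))).eq_of_tgt _ _
  rw [h0, zero_comp, add_zero] at hk
  refine ⟨T', π, hπ, x ≫ (FilD.grF A p).map (HomologicalComplex.singleObjXSelf (ComplexShape.up ℤ) 0 Z).hom, ?_⟩
  refine hk.trans ?_
  change x ≫ (FilD.grF A p).map (c.f 0) = (x ≫ _) ≫ (FilD.grF A p).map (aug c)
  rw [single_f_zero, Functor.map_comp]
  exact (Category.assoc _ _ _).symm

include hc in
theorem gr_exact_pos (p n : ℤ) (hn : 1 ≤ n) : ((FilD.grCx p).obj J).ExactAt n := by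
  rw [HomologicalComplex.exactAt_iff' _ (n - 1) n (n + 1) (by simp) (by simp)]
  refine (ShortComplex.exact_iff_exact_up_to_refinements _).2 fun T y hy => ?_
  have := hc p
  have : Epi (HomologicalComplex.homologyMap ((FilD.grCx p).map c) n) := inferInstance
  rw [HomologicalComplex.epi_homologyMap_iff_up_to_refinements _ (n - 1) n (n + 1) (by simp) (by simp)] at this
  obtain ⟨T', π, hπ, x, -, k, hk⟩ := this y hy
  have h0 : x = 0 :=
    ((FilD.grF A p).map_isZero (HomologicalComplex.isZero_single_obj_X _ _ _ _ (by omega))).eq_of_tgt _ _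
  rw [h0, zero_comp, zero_add] at hk
  exact ⟨T', π, hπ, k, hk⟩

include hc in
theorem str_aug : Str (aug c) := str_of_gr_mono _ fun p T x z e => by
  have := mono_gr_aug c hc p
  rw [← cancel_mono ((FilD.grF A p).map (aug c)), zero_comp, Category.assoc, ← grπ_naturality,
    ← Category.assoc, e, Category.assoc, tm_grπ, comp_zero]

include hc in
theorem mono_aug_app (p : ℤ) : Mono ((aug c).hom.app (op p)) := mono_app_of_gr_mono _ (fun p T x z e => by
  have := mono_gr_aug c hc p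
  rw [← cancel_mono ((FilD.grF A p).map (aug c)), zero_comp, Category.assoc, ← grπ_naturality,
    ← Category.assoc, e, Category.assoc, tm_grπ, comp_zero]) p

include hc in
theorem str_d (n : ℤ) (hn : 0 ≤ n) : Str (J.d n (n + 1)) := by
  rcases eq_or_lt_of_le hn with rfl | h
  · exact str_g (ShortComplex.mk (aug c) (J.d 0 1) (aug_d c)) (gr_exact_aug c hc)
  · exact str_g (J.sc' (n - 1) n (n + 1)) fun p =>
      (HomologicalComplex.exactAt_iff' ((FilD.grCx p).obj J) _ _ _ (by simp) (by simp)).1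
        (gr_exact_pos c hc p n (by omega))

end Aug

section Horseshoe

variable {S : ShortComplex (FilD.FilF A)}
  (hS : ∀ p : ℤ, (S.map ((FilD.IsFinFil A).ι ⋙ (evaluation ℤᵒᵖ A).obj (op p))).ShortExact)

include hS in
theorem exact_app (p : ℤ) {T : A} (y : T ⟶ S.X₂.obj.obj (op p)) (hy : y ≫ S.g.hom.app (op p) = 0) :
    ∃ (T' : A) (π : T' ⟶ T) (_ : Epi π) (x : T' ⟶ S.X₁.obj.obj (op p)), π ≫ y = x ≫ S.f.hom.app (op p) :=
  (hS p).exact.exact_up_to_refinements y hy

include hS in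
theorem str_f_app : Str S.f := fun p q h T y z e => by
  obtain ⟨T', π, hπ, x, hx⟩ := exact_app hS q z (by
    rw [← cancel_mono (tm S.X₃ h), zero_comp, Category.assoc, ← tm_app, ← Category.assoc, ← e,
      Category.assoc, zero_app, comp_zero])
  exact ⟨T', π, hπ, x, hx.symm⟩

include hS in
theorem epi_g_app (p : ℤ) : Epi (S.g.hom.app (op p)) := (hS p).epi_g

include hS in
theorem mono_f_app (p : ℤ) : Mono (S.f.hom.app (op p)) := (hS p).mono_f

variable {I J : CochainComplex (FilD.FilF A) ℤ} [I.IsStrictlyGE 0] [J.IsStrictlyGE 0]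
  (hI : ∀ n, FilD.IsFilteredInjective (I.X n))
  (a : (HomologicalComplex.single (FilD.FilF A) (ComplexShape.up ℤ) 0).obj S.X₁ ⟶ I)
  (c : (HomologicalComplex.single (FilD.FilF A) (ComplexShape.up ℤ) 0).obj S.X₃ ⟶ J) (hc : FilD.IsFilteredQuasiIso c)

include hI hS in
theorem exists_u : ∃ u : S.X₂ ⟶ I.X 0, S.f ≫ u = aug a :=
  exists_extend' S.f (str_f_app hS) (hI 0) (aug a) fun p T x hx => by
    have := mono_f_app hS p
    rw [zero_of_comp_mono _ hx, zero_comp]

include hI hS hc in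
theorem exists_tau_zero (u : S.X₂ ⟶ I.X 0) (hu : S.f ≫ u = aug a) :
    ∃ τ : J.X 0 ⟶ I.X 1, (S.g ≫ aug c) ≫ τ = -(u ≫ I.d 0 1) := by
  refine exists_extend' (S.g ≫ aug c) ?_ (hI 1) _ fun p T y hy => ?_
  · intro p q h T y z e
    obtain ⟨T₁, π₁, _, z', hz'⟩ := str_aug c hc p q h (y ≫ S.g.hom.app (op p)) z (by
      rw [Category.assoc]; exact e)
    have := epi_g_app hS q
    obtain ⟨T₂, π₂, _, y', hy'⟩ := surjective_up_to_refinements_of_epi (S.g.hom.app (op q)) z'
    refine ⟨T₂, π₂ ≫ π₁, inferInstance, y', ?_⟩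
    change y' ≫ S.g.hom.app (op q) ≫ (aug c).hom.app (op q) = _
    rw [← Category.assoc, ← hy', Category.assoc, hz', Category.assoc]
  · have := mono_aug_app c hc p
    have hg : y ≫ S.g.hom.app (op p) = 0 := zero_of_comp_mono ((aug c).hom.app (op p))
      ((Category.assoc _ _ _).trans hy)
    obtain ⟨T', π, _, x, hx⟩ := exact_app hS p y hg
    have h0 : S.f ≫ (-(u ≫ I.d 0 1)) = 0 := by
      rw [Preadditive.comp_neg, ← Category.assoc, hu, aug_d, neg_zero]
    rw [← cancel_epi π, comp_zero, ← Category.assoc, hx, Category.assoc]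
    exact (congrArg (x ≫ ·) (congrArg (fun t : S.X₁ ⟶ I.X 1 => t.hom.app (op p)) h0)).trans comp_zero

/-- A component of the twisting. -/
def TS (n : ℤ) := { τ : J.X n ⟶ I.X (n + 1) //
  ∀ (p : ℤ) {T : A} (y : T ⟶ (J.X n).obj.obj (op p)), y ≫ (J.d n (n + 1)).hom.app (op p) = 0 →
    y ≫ (τ ≫ I.d (n + 1) (n + 1 + 1)).hom.app (op p) = 0 }

include hc hI in
theorem exists_tau_succ (n : ℤ) (hn : 0 ≤ n) (τ : TS (I := I) (J := J) n) :
    ∃ τ' : TS (I := I) (J := J) (n + 1), J.d n (n + 1) ≫ τ'.1 = -(τ.1 ≫ I.d (n + 1) (n + 1 + 1)) := by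
  obtain ⟨g, hg⟩ := exists_extend' (J.d n (n + 1)) (str_d c hc n hn) (hI (n + 1 + 1))
    (-(τ.1 ≫ I.d (n + 1) (n + 1 + 1))) fun p T y hy => by
      have h := τ.2 p y hy
      exact (Preadditive.comp_neg _ _).trans (neg_eq_zero.2 h)
  refine ⟨⟨g, fun p T y hy => ?_⟩, hg⟩
  obtain ⟨T', π, _, x, hx⟩ := exact_step (J.sc' n (n + 1) (n + 1 + 1)) (fun q =>
    (HomologicalComplex.exactAt_iff' ((FilD.grCx q).obj J) _ _ _ (by simp) (by simp)).1
      (gr_exact_pos c hc q (n + 1) (by omega))) p y hy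
  change π ≫ y = x ≫ (J.d n (n + 1)).hom.app (op p) at hx
  have h0 : J.d n (n + 1) ≫ g ≫ I.d (n + 1 + 1) (n + 1 + 1 + 1) = 0 := by
    rw [← Category.assoc, hg, Preadditive.neg_comp, Category.assoc, I.d_comp_d, comp_zero, neg_zero]
  refine (cancel_epi π).1 (Eq.trans ?_ comp_zero.symm)
  refine (Category.assoc _ _ _).symm.trans ((congrArg (· ≫ _) hx).trans ((Category.assoc _ _ _).trans ?_))
  exact (congrArg (x ≫ ·) (congrArg (fun t : J.X n ⟶ I.X (n + 1 + 1 + 1) => t.hom.app (op p)) h0)).trans comp_zero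

include hI hS hc in
theorem exists_ts_zero (u : S.X₂ ⟶ I.X 0) (hu : S.f ≫ u = aug a) :
    ∃ τ : TS (I := I) (J := J) 0, (S.g ≫ aug c) ≫ τ.1 = -(u ≫ I.d 0 (0 + 1)) := by
  obtain ⟨τ, hτ⟩ := exists_tau_zero hS hI a c hc u hu
  refine ⟨⟨τ, fun p T y hy => ?_⟩, hτ⟩
  obtain ⟨T₁, π₁, _, x, hx⟩ := exact_step (ShortComplex.mk (aug c) (J.d 0 1) (aug_d c)) (gr_exact_aug c hc) p y hy
  change π₁ ≫ y = x ≫ (aug c).hom.app (op p) at hx
  have := epi_g_app hS p
  obtain ⟨T₂, π₂, _, x', hx'⟩ := surjective_up_to_refinements_of_epi (S.g.hom.app (op p)) x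
  have h0 : (S.g ≫ aug c) ≫ τ ≫ I.d 1 (1 + 1) = 0 := by
    rw [← Category.assoc, hτ, Preadditive.neg_comp, Category.assoc, I.d_comp_d, comp_zero, neg_zero]
  rw [← cancel_epi π₁, comp_zero, ← Category.assoc, hx, ← cancel_epi π₂, comp_zero, Category.assoc,
    ← Category.assoc π₂, hx', Category.assoc]
  exact (congrArg (x' ≫ ·) ((Category.assoc _ _ _).symm.trans
    (congrArg (fun t : S.X₂ ⟶ I.X (1 + 1) => t.hom.app (op p)) h0))).trans comp_zero

include hI hS hc in
theorem exists_twist (u : S.X₂ ⟶ I.X 0) (hu : S.f ≫ u = aug a) :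
    ∃ τ : ∀ n, J.X n ⟶ I.X (n + 1), (S.g ≫ aug c) ≫ τ 0 = -(u ≫ I.d 0 (0 + 1)) ∧
      ∀ n, J.d n (n + 1) ≫ τ (n + 1) + τ n ≫ I.d (n + 1) (n + 1 + 1) = 0 := by
  obtain ⟨τ₀, hτ₀⟩ := exists_ts_zero hS hI a c hc u hu
  let F : ∀ k : ℕ, TS (I := I) (J := J) k := fun k => Nat.rec τ₀
    (fun k τ => (exists_tau_succ hI c hc k (by omega) τ).choose) k
  let τ : ∀ n : ℤ, J.X n ⟶ I.X (n + 1) := fun n =>
    if h : 0 ≤ n then eqToHom (by rw [Int.toNat_of_nonneg h]) ≫ (F n.toNat).1 ≫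
      eqToHom (by rw [Int.toNat_of_nonneg h]) else 0
  have hτ : ∀ k : ℕ, τ k = (F k).1 := by
    intro k
    have key : ∀ (m : ℕ) (h : m = k) (e1 : J.X (k : ℤ) = J.X (m : ℤ)) (e2 : I.X ((m : ℤ) + 1) = I.X ((k : ℤ) + 1)),
        eqToHom e1 ≫ (F m).1 ≫ eqToHom e2 = (F k).1 := by
      rintro m rfl e1 e2
      simp
    exact (dif_pos (by omega)).trans (key (k : ℤ).toNat (by simp) _ _)
  refine ⟨τ, ?_, fun n => ?_⟩
  · rw [show τ 0 = τ₀.1 from hτ 0]
    exact hτ₀
  · by_cases hn : 0 ≤ n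
    · obtain ⟨k, rfl⟩ : ∃ k : ℕ, n = k := ⟨n.toNat, by omega⟩
      rw [hτ k, show τ ((k : ℤ) + 1) = (F (k + 1)).1 from hτ (k + 1), add_eq_zero_iff_eq_neg]
      exact (exists_tau_succ hI c hc (k : ℤ) (by omega) (F k)).choose_spec
    · exact (CochainComplex.isZero_of_isStrictlyGE J 0 n (by omega)).eq_of_src _ _

include hI hS hc in
/-- The horseshoe lemma. -/
theorem exists_horseshoe :
    ∃ (M : CochainComplex (FilD.FilF A) ℤ) (α : I ⟶ M) (β : M ⟶ J)
      (b : (HomologicalComplex.single (FilD.FilF A) (ComplexShape.up ℤ) 0).obj S.X₂ ⟶ M),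
      (∀ n, ∃ (r : M.X n ⟶ I.X n) (s : J.X n ⟶ M.X n), α.f n ≫ r = 𝟙 _ ∧ s ≫ β.f n = 𝟙 _ ∧ α.f n ≫ β.f n = 0 ∧
        r ≫ α.f n + β.f n ≫ s = 𝟙 _) ∧
      a ≫ α = (HomologicalComplex.single (FilD.FilF A) (ComplexShape.up ℤ) 0).map S.f ≫ b ∧
        b ≫ β = (HomologicalComplex.single (FilD.FilF A) (ComplexShape.up ℤ) 0).map S.g ≫ c := by
  obtain ⟨u, hu⟩ := exists_u hS hI a
  obtain ⟨τ, h0, h1⟩ := exists_twist hS hI a c hc u hu
  let d : ∀ n, I.X n ⊞ J.X n ⟶ I.X (n + 1) ⊞ J.X (n + 1) := fun n =>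
    biprod.desc (I.d n (n + 1) ≫ biprod.inl) (τ n ≫ biprod.inl + J.d n (n + 1) ≫ biprod.inr)
  let M : CochainComplex (FilD.FilF A) ℤ := CochainComplex.of (fun n => I.X n ⊞ J.X n) d fun n => by
    refine biprod.hom_ext' _ _ ?_ ?_
    · simp [d]
    · simp only [d, biprod.inr_desc_assoc, Preadditive.add_comp, Category.assoc, biprod.inl_desc, biprod.inr_desc,
        Preadditive.comp_add, HomologicalComplex.d_comp_d_assoc, zero_comp, add_zero, comp_zero]
      rw [← Category.assoc, ← Category.assoc (J.d n (n + 1)), ← Preadditive.add_comp,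
        show τ n ≫ I.d (n + 1) (n + 1 + 1) + J.d n (n + 1) ≫ τ (n + 1) = 0 from (add_comm _ _).trans (h1 n),
        zero_comp]
  have hMd : ∀ n, M.d n (n + 1) = d n := fun n => by simp [M]
  refine ⟨M, { f := fun n => biprod.inl, comm' := ?_ }, { f := fun n => biprod.snd, comm' := ?_ },
    HomologicalComplex.mkHomFromSingle (biprod.lift u (S.g ≫ aug c) : S.X₂ ⟶ M.X 0) ?_, fun n => ?_, ?_, ?_⟩
  · intro i j hij
    obtain rfl : i + 1 = j := hij
    rw [hMd]
    exact biprod.inl_desc _ _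
  · intro i j hij
    obtain rfl : i + 1 = j := hij
    rw [hMd]
    change biprod.snd ≫ J.d i (i + 1) = d i ≫ biprod.snd
    refine biprod.hom_ext' _ _ ?_ ?_
    · simp [d]
    · simp [d]
  · intro k hk
    obtain rfl : (0 : ℤ) + 1 = k := hk
    rw [hMd]
    change biprod.lift u (S.g ≫ aug c) ≫ biprod.desc _ _ = 0
    have h2 : (S.g ≫ aug c) ≫ J.d 0 (0 + 1) = 0 :=
      (Category.assoc _ _ _).trans ((congrArg (S.g ≫ ·) (aug_d c)).trans comp_zero)
    rw [biprod.lift_desc, Preadditive.comp_add, ← Category.assoc (S.g ≫ aug c) (τ 0), h0,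
      ← Category.assoc (S.g ≫ aug c) (J.d 0 (0 + 1)), h2, zero_comp, add_zero, Preadditive.neg_comp,
      Category.assoc, add_neg_cancel]
  · exact ⟨biprod.fst, biprod.inr, biprod.inl_fst, biprod.inr_snd, biprod.inl_snd, biprod.total⟩
  · apply HomologicalComplex.from_single_hom_ext
    rw [HomologicalComplex.comp_f, HomologicalComplex.comp_f, HomologicalComplex.mkHomFromSingle_f,
      single_f_zero a]
    refine biprod.hom_ext _ _ ?_ ?_
    · simp [HomologicalComplex.single_map_f_self, hu]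
    · simp [HomologicalComplex.single_map_f_self]
  · apply HomologicalComplex.from_single_hom_ext
    rw [HomologicalComplex.comp_f, HomologicalComplex.comp_f, HomologicalComplex.mkHomFromSingle_f,
      single_f_zero c]
    simp [HomologicalComplex.single_map_f_self]

end Horseshoe

end GrothLib.FilInj
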