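import Groth.Agent.Lib.FilInj.Strict

/-!
# Maps from filtered acyclic complexes into filtered injective complexes
-/

universe v u

open CategoryTheory Limits Opposite

namespace GrothLib.FilInj

variable {A : Type u} [Category.{v} A] [Abelian A]

theorem gr_exact_of_acyclic {K : CochainComplex (FilD.FilF A) ℤ} (hK : FilD.IsFilteredAcyclic K)
    {i j k : ℤ} (hi : i + 1 = j) (hk : j + 1 = k) (p : ℤ) :
    ((K.sc' i j k).map (FilD.grF A p)).Exact :=
  (HomologicalComplex.exactAt_iff' ((FilD.grCx p).obj K) i j k (by simp; omega) (by simp; omega)).1 (hK p j)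

variable {K I : CochainComplex (FilD.FilF A) ℤ} (hK : FilD.IsFilteredAcyclic K)
  (hI : ∀ n, FilD.IsFilteredInjective (I.X n)) (φ : K ⟶ I)

/-- A partial homotopy. -/
def HS (n : ℤ) := { h : K.X (n + 1) ⟶ I.X n //
  K.d n (n + 1) ≫ h ≫ I.d n (n + 1) = K.d n (n + 1) ≫ φ.f (n + 1) }

include hK hI in
theorem exists_next (n : ℤ) (h : HS φ n) : ∃ h' : HS φ (n + 1),
    K.d (n + 1) (n + 1 + 1) ≫ h'.1 = φ.f (n + 1) - h.1 ≫ I.d n (n + 1) := by
  obtain ⟨g, hg⟩ := exists_extend' (K.d (n + 1) (n + 1 + 1))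
    (str_g (K.sc' n (n + 1) (n + 1 + 1)) (gr_exact_of_acyclic hK rfl rfl)) (hI (n + 1))
    (φ.f (n + 1) - h.1 ≫ I.d n (n + 1)) (fun p T x hx => by
      obtain ⟨T', π, _, (y : T' ⟶ (K.X n).obj.obj (op p)), hy⟩ :=
        exact_step (K.sc' n (n + 1) (n + 1 + 1)) (gr_exact_of_acyclic hK rfl rfl) p x hx
      have h2 : K.d n (n + 1) ≫ (φ.f (n + 1) - h.1 ≫ I.d n (n + 1)) = 0 := by
        rw [Preadditive.comp_sub, h.2, sub_self]
      have h3 : (K.d n (n + 1)).hom.app (op p) ≫ (φ.f (n + 1) - h.1 ≫ I.d n (n + 1)).hom.app (op p) = 0 :=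
        congrArg (fun t : K.X n ⟶ I.X (n + 1) => t.hom.app (op p)) h2
      rw [← cancel_epi π, comp_zero]
      refine (Category.assoc _ _ _).symm.trans ((congrArg (· ≫ _) hy).trans ((Category.assoc _ _ _).trans ?_))
      exact (congrArg (y ≫ ·) h3).trans comp_zero)
  refine ⟨⟨g, ?_⟩, hg⟩
  rw [reassoc_of% hg, Preadditive.sub_comp, Category.assoc, I.d_comp_d, comp_zero, sub_zero, φ.comm]

variable (a : ℤ) [I.IsStrictlyGE a]

/-- The homotopy. -/
noncomputable def hs (n : ℤ) : HS φ n :=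
  if h : n + 1 < a then ⟨0, (CochainComplex.isZero_of_isStrictlyGE I a (n + 1) h).eq_of_tgt _ _⟩
  else
    (show n - 1 + 1 = n by omega) ▸ (exists_next hK hI φ (n - 1) (hs (n - 1))).choose
termination_by (n + 2 - a).toNat
decreasing_by omega

theorem hs_spec (m n : ℤ) (hmn : m + 1 = n) :
    K.d n (n + 1) ≫ (hs hK hI φ a n).1 =
      φ.f n - eqToHom (by rw [hmn]) ≫ (hs hK hI φ a m).1 ≫ I.d m n := by
  subst hmn
  by_cases h : m + 1 < a
  · exact (CochainComplex.isZero_of_isStrictlyGE I a (m + 1) h).eq_of_tgt _ _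
  · conv_lhs => rw [hs, dif_neg (by omega)]
    rw [eqToHom_refl, Category.id_comp]
    have key : ∀ (k : ℤ) (hk : k = m) (e : k + 1 = m + 1),
        K.d (m + 1) (m + 1 + 1) ≫ (e ▸ (exists_next hK hI φ k (hs hK hI φ a k)).choose : HS φ (m + 1)).1 =
          φ.f (m + 1) - (hs hK hI φ a m).1 ≫ I.d m (m + 1) := by
      intro k hk e
      subst hk
      exact (exists_next hK hI φ k (hs hK hI φ a k)).choose_spec
    exact key (m + 1 - 1) (by omega) _

include hK hI a in
/-- Every map from a filtered acyclic complex to a bounded below filtered injective complex is null-homotopic. -/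
theorem nonempty_homotopy : Nonempty (Homotopy φ 0) := by
  refine ⟨{
    hom := fun i j => if h : j + 1 = i then eqToHom (by rw [h]) ≫ (hs hK hI φ a j).1 else 0
    zero := fun i j hij => dif_neg hij
    comm := fun n => ?_ }⟩
  rw [dNext_eq _ (show (ComplexShape.up ℤ).Rel n (n + 1) from rfl),
    prevD_eq _ (show (ComplexShape.up ℤ).Rel (n - 1) n from by simp), dif_pos rfl, dif_pos (by omega)]
  rw [eqToHom_refl, Category.id_comp, hs_spec hK hI φ a (n - 1) n (by omega), Category.assoc]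
  simp

end GrothLib.FilInj
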