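import Groth.Agent.Lib.FilInj.Biprod
import Groth.Agent.Lib.FilInj.Htpy

/-!
# Precomposition with filtered quasi-isomorphisms into filtered injective complexes
-/

universe v u

open CategoryTheory Limits Opposite Pretriangulated

namespace GrothLib.FilInj

variable {A : Type u} [Category.{v} A] [Abelian A]

/-- The mapping cone of a quasi-isomorphism is acyclic. -/
theorem exactAt_mappingCone {K L : CochainComplex A ℤ} (f : K ⟶ L) [hf : QuasiIso f] (n : ℤ) :
    (CochainComplex.mappingCone f).ExactAt n := by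
  have h : (HomotopyCategory.subcategoryAcyclic A).trW
      (CochainComplex.mappingCone.triangleh f).mor₁ := by
    rw [← HomotopyCategory.quasiIso_eq_trW_subcategoryAcyclic]
    exact (HomotopyCategory.quotient_map_mem_quasiIso_iff f).2 hf
  rw [ObjectProperty.trW_iff_of_distinguished _ _
    (HomotopyCategory.mappingCone_triangleh_distinguished f)] at h
  exact (HomotopyCategory.quotient_obj_mem_subcategoryAcyclic_iff_exactAt _).1 h n

theorem isFilteredAcyclic_mappingCone {K L : CochainComplex (FilD.FilF A) ℤ} (α : K ⟶ L)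
    (hα : FilD.IsFilteredQuasiIso α) : FilD.IsFilteredAcyclic (CochainComplex.mappingCone α) := by
  intro p n
  haveI := hα p
  exact (exactAt_mappingCone ((FilD.grCx p).map α) n).of_iso
    (CochainComplex.mappingCone.mapHomologicalComplexIso α (FilD.grF A p)).symm

/-- The homotopy category of finite filtered objects. -/
noncomputable abbrev q : CochainComplex (FilD.FilF A) ℤ ⥤ HomotopyCategory (FilD.FilF A) (ComplexShape.up ℤ) :=
  HomotopyCategory.quotient _ _

theorem eq_zero_of_acyclic {K I : CochainComplex (FilD.FilF A) ℤ} (hK : FilD.IsFilteredAcyclic K)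
    (hI : ∀ n, FilD.IsFilteredInjective (I.X n)) (a : ℤ) [I.IsStrictlyGE a] (f : q.obj K ⟶ q.obj I) : f = 0 := by
  obtain ⟨φ, rfl⟩ := (HomotopyCategory.quotient _ _).map_surjective f
  obtain ⟨h⟩ := nonempty_homotopy hK hI φ a
  rw [HomotopyCategory.eq_of_homotopy _ _ h, Functor.map_zero]

theorem eq_zero_of_acyclic_shift {K I : CochainComplex (FilD.FilF A) ℤ} (hK : FilD.IsFilteredAcyclic K)
    (hI : ∀ n, FilD.IsFilteredInjective (I.X n)) (a : ℤ) [I.IsStrictlyGE a]
    (f : (q.obj K)⟦(-1 : ℤ)⟧ ⟶ q.obj I) : f = 0 := by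
  haveI : (I⟦(1 : ℤ)⟧).IsStrictlyGE (a - 1) := CochainComplex.isStrictlyGE_shift I a 1 _ (by omega)
  let e := (shiftFunctorCompIsoId (HomotopyCategory (FilD.FilF A) (ComplexShape.up ℤ)) (-1 : ℤ) 1 (by omega)).app (q.obj K)
  have h := eq_zero_of_acyclic hK (I := I⟦(1 : ℤ)⟧) (fun n => hI _) (a - 1)
    (e.inv ≫ f⟦(1 : ℤ)⟧' ≫ ((HomotopyCategory.quotient (FilD.FilF A) (ComplexShape.up ℤ)).commShiftIso (1 : ℤ)).inv.app I)
  simp only [Preadditive.IsIso.comp_left_eq_zero, Preadditive.IsIso.comp_right_eq_zero] at h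
  refine (shiftFunctor _ (1 : ℤ)).map_injective ?_
  rw [Functor.map_zero]
  exact h

/-- Precomposition with a filtered quasi-isomorphism is bijective. -/
theorem precomp_bijective {I : CochainComplex (FilD.FilF A) ℤ} (a : ℤ) [I.IsStrictlyGE a]
    (hI : ∀ n, FilD.IsFilteredInjective (I.X n)) {K L : CochainComplex (FilD.FilF A) ℤ} (α : K ⟶ L)
    (hα : FilD.IsFilteredQuasiIso α) :
    Function.Bijective (fun β : q.obj L ⟶ q.obj I => q.map α ≫ β) := by
  have hT := HomotopyCategory.mappingCone_triangleh_distinguished α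
  have hC := isFilteredAcyclic_mappingCone α hα
  constructor
  · intro β₁ β₂ h
    obtain ⟨g, hg⟩ := Triangle.yoneda_exact₂ _ hT (β₁ - β₂)
      ((Preadditive.comp_sub _ _ _).trans (sub_eq_zero.2 h))
    rw [eq_zero_of_acyclic hC hI a g] at hg
    exact sub_eq_zero.1 (hg.trans comp_zero)
  · intro γ
    obtain ⟨g, hg⟩ := Triangle.yoneda_exact₂ _ (inv_rot_of_distTriang _ hT) γ
      (eq_zero_of_acyclic_shift hC hI a _)
    exact ⟨g, hg.symm⟩

/-- Homotopic maps from an object in degree zero to a complex in nonnegative degrees are equal. -/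
theorem single_eq_of_homotopy {X : FilD.FilF A} {J : CochainComplex (FilD.FilF A) ℤ} [J.IsStrictlyGE 0]
    {f g : (CochainComplex.singleFunctor (FilD.FilF A) 0).obj X ⟶ J} (h : Homotopy f g) : f = g := by
  ext n : 1
  by_cases hn : n = 0
  · subst hn
    rw [h.comm 0, dNext_eq _ (show (ComplexShape.up ℤ).Rel 0 1 from by simp),
      prevD_eq _ (show (ComplexShape.up ℤ).Rel (-1) 0 from by simp),
      (CochainComplex.isZero_of_isStrictlyGE J 0 (-1) (by omega)).eq_of_tgt (h.hom 0 (-1)) 0,
      (HomologicalComplex.isZero_single_obj_X (ComplexShape.up ℤ) 0 X 1 (by omega)).eq_of_src (h.hom 1 0) 0]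
    first
      | (simp; done)
      | (simp; exact comp_zero)
  · exact (HomologicalComplex.isZero_single_obj_X (ComplexShape.up ℤ) 0 X n hn).eq_of_src _ _

/-- Maps of objects extend to maps of filtered injective resolutions. -/
theorem exists_resolution_map {X Y : FilD.FilF A} (f : X ⟶ Y) (I J : CochainComplex (FilD.FilF A) ℤ)
    [J.IsStrictlyGE 0] (a : (CochainComplex.singleFunctor (FilD.FilF A) 0).obj X ⟶ I)
    (ha : FilD.IsFilteredQuasiIso a) (hJ : ∀ n, FilD.IsFilteredInjective (J.X n))
    (b : (CochainComplex.singleFunctor (FilD.FilF A) 0).obj Y ⟶ J) :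
    ∃ φ : I ⟶ J, a ≫ φ = (CochainComplex.singleFunctor (FilD.FilF A) 0).map f ≫ b := by
  obtain ⟨β, hβ⟩ := (precomp_bijective 0 hJ a ha).2
    ((HomotopyCategory.quotient _ _).map ((CochainComplex.singleFunctor (FilD.FilF A) 0).map f ≫ b))
  obtain ⟨φ, rfl⟩ := (HomotopyCategory.quotient _ _).map_surjective β
  exact ⟨φ, single_eq_of_homotopy (HomotopyCategory.homotopyOfEq _ _ (by rw [Functor.map_comp]; exact hβ))⟩

end GrothLib.FilInj
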