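import Groth.Agent.Lib.FilInj.Biprod

/-!
# Filtered injective resolutions of bounded below complexes
-/

universe v u

open CategoryTheory Limits Opposite

namespace GrothLib.FilInj

variable {A : Type u} [Category.{v} A] [Abelian A] [EnoughInjectives A]
  (K : CochainComplex (FilD.FilF A) ℤ)

open scoped ZeroObject

/-- The state of the construction in degree `n`. -/
structure St (n : ℤ) where
  I : FilD.FilF A
  P : FilD.FilF A
  D : P ⟶ K.X n ⊞ I
  str : Str D
  fst_d : D ≫ biprod.fst ≫ K.d n (n + 1) = 0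
  ker : ∀ (p : ℤ) {T : A} (w : T ⟶ (FilD.grF A p).obj P), w ≫ (FilD.grF A p).map (D ≫ biprod.snd) = 0 →
    w ≫ (FilD.grF A p).map (D ≫ biprod.fst) = 0

variable {K}

/-- The data of one step. -/
structure Emb {n : ℤ} (s : St K n) where
  J : FilD.FilF A
  β : K.X n ⊞ s.I ⟶ J
  inj : FilD.IsFilteredInjective J
  zero : IsZero (K.X n) → IsZero s.I → IsZero J
  comp : s.D ≫ β = 0
  exact : ∀ (p : ℤ) {T : A} (w : T ⟶ (FilD.grF A p).obj (K.X n ⊞ s.I)), w ≫ (FilD.grF A p).map β = 0 →
    ∃ (T' : A) (π : T' ⟶ T) (_ : Epi π) (v : T' ⟶ (FilD.grF A p).obj s.P),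
      π ≫ w = v ≫ (FilD.grF A p).map s.D

theorem nonempty_emb {n : ℤ} (s : St K n) : Nonempty (Emb s) := by
  by_cases h : IsZero (K.X n) ∧ IsZero s.I
  · have hC : IsZero (K.X n ⊞ s.I) := (IsZero.iff_id_eq_zero _).2
      (biprod.hom_ext _ _ (h.1.eq_of_tgt _ _) (h.2.eq_of_tgt _ _))
    refine ⟨⟨0, 0, fun p => (Functor.map_isZero (FilD.grF A p) (isZero_zero _)).injective,
      fun _ _ => isZero_zero _, comp_zero, fun p T w _ => ⟨T, 𝟙 T, inferInstance, 0,
      (Functor.map_isZero (FilD.grF A p) hC).eq_of_tgt _ _⟩⟩⟩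
  · obtain ⟨J, β, h1, h2, h3⟩ := exists_embed_cokernel s.D s.str
    exact ⟨⟨J, β, h1, fun a b => absurd ⟨a, b⟩ h, h2, h3⟩⟩

/-- A choice of step. -/
noncomputable def emb {n : ℤ} (s : St K n) : Emb s := (nonempty_emb s).some

/-- The next differential of the cone. -/
noncomputable def nextD {n : ℤ} (s : St K n) : K.X n ⊞ s.I ⟶ K.X (n + 1) ⊞ (emb s).J :=
  biprod.lift (-(biprod.fst ≫ K.d n (n + 1))) (emb s).β

theorem gr_exact {n : ℤ} (s : St K n) (h : s.D ≫ nextD s = 0) (p : ℤ) :
    ((ShortComplex.mk s.D (nextD s) h).map (FilD.grF A p)).Exact := by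
  refine (ShortComplex.exact_iff_exact_up_to_refinements _).2 fun T (w : T ⟶ (FilD.grF A p).obj (K.X n ⊞ s.I)) hw => ?_
  refine (emb s).exact p w ?_
  have h2 : w ≫ (FilD.grF A p).map (nextD s) = 0 := hw
  calc w ≫ (FilD.grF A p).map (emb s).β
      = w ≫ (FilD.grF A p).map (nextD s ≫ biprod.snd) := by rw [nextD, biprod.lift_snd]
    _ = 0 := by rw [Functor.map_comp, ← Category.assoc, h2, zero_comp]

theorem D_nextD {n : ℤ} (s : St K n) : s.D ≫ nextD s = 0 := by
  refine biprod.hom_ext _ _ ?_ ?_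
  · simp [nextD, s.fst_d]
  · simp [nextD, (emb s).comp]

/-- The next state. -/
noncomputable abbrev next {n : ℤ} (s : St K n) : St K (n + 1) where
  I := (emb s).J
  P := K.X n ⊞ s.I
  D := nextD s
  str := str_g (ShortComplex.mk s.D (nextD s) (D_nextD s)) (gr_exact s (D_nextD s))
  fst_d := by simp [nextD, K.d_comp_d]
  ker p T w hw := by
    have h1 : w ≫ (FilD.grF A p).map (emb s).β = 0 := by simpa [nextD] using hw
    obtain ⟨T', π, _, v, hv⟩ := (emb s).exact p w h1
    rw [← cancel_epi π, comp_zero, ← Category.assoc, hv, Category.assoc, ← Functor.map_comp]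
    simp [nextD, s.fst_d]

variable (K) in
/-- The initial state. -/
noncomputable def base (n : ℤ) : St K n where
  I := 0
  P := 0
  D := 0
  str := by
    refine str_of_step _ fun p T y z e => ?_
    refine ⟨T, 𝟙 T, inferInstance, 0, ?_⟩
    rw [zero_comp, Category.id_comp]
    refine ((cancel_mono (tm _ (le1 p))).1 ?_)
    rw [zero_comp, ← e]
    exact (comp_zero).symm
  fst_d := zero_comp
  ker p T w _ := by rw [zero_comp, Functor.map_zero, comp_zero]

variable (K) (a : ℤ)

/-- The state in each degree. -/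
noncomputable def st (n : ℤ) : St K n :=
  if h : n < a then base K n else (show n - 1 + 1 = n by omega) ▸ next (st (n - 1))
termination_by (n + 1 - a).toNat
decreasing_by omega

theorem st_succ (n : ℤ) (h : a ≤ n + 1) : st K a (n + 1) = next (st K a n) := by
  conv_lhs => rw [st, dif_neg (by omega)]
  have key : ∀ (k : ℤ) (hk : k = n) (e : k + 1 = n + 1), (e ▸ next (st K a k) : St K (n + 1)) = next (st K a n) := by
    intro k hk e
    subst hk
    rfl
  exact key (n + 1 - 1) (by omega) _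

/-- The terms of the resolution. -/
noncomputable abbrev RX (n : ℤ) : FilD.FilF A := (emb (st K a n)).J

/-- The differential between consecutive states. -/
noncomputable def dd {n : ℤ} (s : St K n) (s' : St K (n + 1)) (h : s' = next s) : (emb s).J ⟶ (emb s').J :=
  eqToHom (congrArg St.I h).symm ≫ biprod.inr ≫ (emb s').β

theorem dd_self {n : ℤ} (s : St K n) : dd K s (next s) rfl = biprod.inr ≫ (emb (next s)).β :=
  Category.id_comp _

theorem dd_dd {n : ℤ} (s : St K n) (s' : St K (n + 1)) (s'' : St K (n + 1 + 1)) (h : s' = next s)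
    (h' : s'' = next s') : dd K s s' h ≫ dd K s' s'' h' = 0 := by
  subst h h'
  have h2 : (biprod.inr : _ ⟶ K.X (n + 1) ⊞ (next s).I) ≫ nextD (next s) =
      (biprod.inr ≫ (emb (next s)).β) ≫ biprod.inr := by
    refine biprod.hom_ext _ _ ?_ ?_ <;> simp [nextD]
  rw [dd_self, dd_self]
  calc (biprod.inr ≫ (emb (next s)).β) ≫ biprod.inr ≫ (emb (next (next s))).β
      = ((biprod.inr ≫ (emb (next s)).β) ≫ biprod.inr) ≫ (emb (next (next s))).β :=
        (Category.assoc _ _ _).symm
    _ = (biprod.inr ≫ nextD (next s)) ≫ (emb (next (next s))).β := by rw [h2]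
    _ = 0 := (Category.assoc _ _ _).trans ((congrArg (biprod.inr ≫ ·) (emb (next (next s))).comp).trans comp_zero)

theorem u_dd {n : ℤ} (s : St K n) (s' : St K (n + 1)) (h : s' = next s) :
    (biprod.inl ≫ (emb s).β) ≫ dd K s s' h = K.d n (n + 1) ≫ biprod.inl ≫ (emb s').β := by
  subst h
  have h2 : (biprod.inl : _ ⟶ K.X n ⊞ s.I) ≫ nextD s =
      -(K.d n (n + 1) ≫ biprod.inl) + (biprod.inl ≫ (emb s).β) ≫ biprod.inr := by
    refine biprod.hom_ext _ _ ?_ ?_ <;> simp [nextD]
  have h3 : ((biprod.inl : _ ⟶ K.X n ⊞ s.I) ≫ nextD s) ≫ (emb (next s)).β = 0 :=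
    (Category.assoc _ _ _).trans ((congrArg (biprod.inl ≫ ·) (emb (next s)).comp).trans comp_zero)
  rw [h2, Preadditive.add_comp, Preadditive.neg_comp, neg_add_eq_zero] at h3
  rw [dd_self]
  exact (Category.assoc _ _ _).symm.trans (h3.symm.trans (Category.assoc _ _ _))

/-- The differential. -/
noncomputable def Rd (n : ℤ) : RX K a n ⟶ RX K a (n + 1) :=
  if h : a ≤ n + 1 then dd K (st K a n) (st K a (n + 1)) (st_succ K a n h) else 0

theorem Rd_pos {n : ℤ} (h : a ≤ n + 1) : Rd K a n = dd K (st K a n) (st K a (n + 1)) (st_succ K a n h) :=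
  dif_pos h

theorem Rd_neg {n : ℤ} (h : ¬a ≤ n + 1) : Rd K a n = 0 := dif_neg h

/-- The resolution. -/
noncomputable def R : CochainComplex (FilD.FilF A) ℤ :=
  CochainComplex.of (RX K a) (Rd K a) (fun n => by
    by_cases h : a ≤ n + 1
    · rw [Rd_pos K a h, Rd_pos K a (show a ≤ n + 1 + 1 by omega)]
      exact dd_dd K _ _ _ (st_succ K a n h) (st_succ K a (n + 1) (by omega))
    · rw [Rd_neg K a h, zero_comp])

variable [K.IsStrictlyGE a]

theorem isZero_RX (n : ℤ) (h : n < a) : IsZero (RX K a n) := by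
  refine (emb _).zero (CochainComplex.isZero_of_isStrictlyGE K a n h) ?_
  rw [st, dif_pos h]
  exact isZero_zero _

instance isStrictlyGE_R : (R K a).IsStrictlyGE a :=
  (CochainComplex.isStrictlyGE_iff _ _).2 fun n hn => isZero_RX K a n hn

/-- The resolution map. -/
noncomputable def ρ : K ⟶ R K a where
  f n := biprod.inl ≫ (emb (st K a n)).β
  comm' := by
    intro i j hij
    obtain rfl : i + 1 = j := hij
    simp only [R, CochainComplex.of_d]
    by_cases h : a ≤ i + 1
    · rw [Rd_pos K a h]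
      exact u_dd K _ _ (st_succ K a i h)
    · exact (CochainComplex.isZero_of_isStrictlyGE K a i (by omega)).eq_of_src _ _

theorem mono_gr_ρ (n p : ℤ) {T : A} (k : T ⟶ (FilD.grF A p).obj (K.X n))
    (hk : k ≫ (FilD.grF A p).map ((ρ K a).f n) = 0) : k = 0 := by
  let s := st K a n
  obtain ⟨T', π, _, v, hv⟩ := (emb s).exact p (k ≫ (FilD.grF A p).map biprod.inl) (by
    rw [Category.assoc, ← Functor.map_comp]; exact hk)
  have h1 : v ≫ (FilD.grF A p).map (s.D ≫ biprod.snd) = 0 := by
    rw [Functor.map_comp, ← Category.assoc, ← hv, Category.assoc, Category.assoc, ← Functor.map_comp,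
      biprod.inl_snd, Functor.map_zero, comp_zero, comp_zero]
  have h2 := s.ker p v h1
  rw [Functor.map_comp, ← Category.assoc, ← hv, Category.assoc, Category.assoc, ← Functor.map_comp, biprod.inl_fst, CategoryTheory.Functor.map_id,
    Category.comp_id] at h2
  rw [← cancel_epi π, h2, comp_zero]

theorem str_ρ (n : ℤ) : Str ((ρ K a).f n) := str_of_gr_mono _ fun p T x z e => mono_gr_ρ K a n p _ (by
  rw [Category.assoc, ← grπ_naturality, reassoc_of% e, tm_grπ, comp_zero])

theorem mono_ρ (n : ℤ) : Mono ((ρ K a).f n) := mono_of_gr_mono _ fun p T x z e => mono_gr_ρ K a n p _ (by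
  rw [Category.assoc, ← grπ_naturality, reassoc_of% e, tm_grπ, comp_zero])

/-- Exactness of the cone in each degree. -/
theorem cone_exact {m : ℤ} (s : St K m) (s' : St K (m + 1)) (h : s' = next s) (p : ℤ) {T : A}
    (x : T ⟶ (FilD.grF A p).obj (K.X (m + 1))) (y : T ⟶ (FilD.grF A p).obj (emb s).J)
    (hc : x ≫ (FilD.grF A p).map (biprod.inl ≫ (emb s').β) + y ≫ (FilD.grF A p).map (dd K s s' h) = 0) :
    ∃ (T' : A) (π : T' ⟶ T) (_ : Epi π) (k : T' ⟶ (FilD.grF A p).obj (K.X m))
      (i : T' ⟶ (FilD.grF A p).obj s.I),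
      π ≫ x = -(k ≫ (FilD.grF A p).map (K.d m (m + 1))) ∧
      π ≫ y = k ≫ (FilD.grF A p).map (biprod.inl ≫ (emb s).β) +
        i ≫ (FilD.grF A p).map (biprod.inr ≫ (emb s).β) := by
  subst h
  let G := FilD.grF A p
  obtain ⟨T', π, hπ, (v : T' ⟶ G.obj (K.X m ⊞ s.I)), hv⟩ := (emb (next s)).exact p
    (x ≫ G.map biprod.inl + y ≫ G.map (biprod.inr : (next s).I ⟶ K.X (m + 1) ⊞ (next s).I)) (by
      rw [dd_self, Functor.map_comp, Functor.map_comp] at hc
      exact (Preadditive.add_comp _ _ _ _ _ _).trans ((congrArg₂ (· + ·) (Category.assoc _ _ _)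
        (Category.assoc _ _ _)).trans hc))
  change π ≫ _ = v ≫ G.map (nextD s) at hv
  refine ⟨T', π, hπ, v ≫ G.map biprod.fst, v ≫ G.map biprod.snd, ?_, ?_⟩
  · calc π ≫ x = π ≫ ((x ≫ G.map biprod.inl + y ≫ G.map (biprod.inr : (next s).I ⟶ _)) ≫ G.map biprod.fst) := by
          rw [Preadditive.add_comp, Category.assoc, Category.assoc, ← Functor.map_comp, ← Functor.map_comp,
            biprod.inl_fst, biprod.inr_fst, Functor.map_zero, CategoryTheory.Functor.map_id, comp_zero,
            Category.comp_id, add_zero]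
      _ = (v ≫ G.map (nextD s)) ≫ G.map biprod.fst := (Category.assoc _ _ _).symm.trans (congrArg (· ≫ _) hv)
      _ = _ := by
          rw [Category.assoc, ← Functor.map_comp, nextD, biprod.lift_fst, Functor.map_neg, Preadditive.comp_neg,
            Functor.map_comp, Category.assoc]
  · have hl : π ≫ y = v ≫ G.map (emb s).β :=
      calc π ≫ y = π ≫ ((x ≫ G.map biprod.inl + y ≫ G.map (biprod.inr : (next s).I ⟶ _)) ≫ G.map biprod.snd) := by
            rw [Preadditive.add_comp, Category.assoc, Category.assoc, ← Functor.map_comp, ← Functor.map_comp,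
              biprod.inl_snd, biprod.inr_snd, Functor.map_zero, CategoryTheory.Functor.map_id, comp_zero,
              Category.comp_id, zero_add]
        _ = (v ≫ G.map (nextD s)) ≫ G.map biprod.snd := (Category.assoc _ _ _).symm.trans (congrArg (· ≫ _) hv)
        _ = _ := by rw [Category.assoc, ← Functor.map_comp, nextD, biprod.lift_snd]
    rw [hl, Category.assoc, Category.assoc, ← Functor.map_comp, ← Functor.map_comp, ← Preadditive.comp_add,
      ← Functor.map_add]
    congr 2
    rw [← Category.assoc, ← Category.assoc, ← Preadditive.add_comp, biprod.total, Category.id_comp]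

theorem quasiIsoAt_ρ (p n : ℤ) : QuasiIsoAt ((FilD.grCx p).map (ρ K a)) n := by
  rw [quasiIsoAt_iff_isIso_homologyMap]
  let G := FilD.grF A p
  have : Mono (HomologicalComplex.homologyMap ((FilD.grCx p).map (ρ K a)) n) := by
    rw [HomologicalComplex.mono_homologyMap_iff_up_to_refinements _ (n - 1) n (n + 1) (by simp) (by simp)]
    intro T (x : T ⟶ G.obj (K.X n)) hx (y : T ⟶ G.obj (RX K a (n - 1))) hy
    change x ≫ G.map (K.d n (n + 1)) = 0 at hx
    change x ≫ G.map ((ρ K a).f n) = y ≫ G.map ((R K a).d (n - 1) n) at hy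
    obtain ⟨m, rfl⟩ : ∃ m, n = m + 1 := ⟨n - 1, by omega⟩
    by_cases ha : a ≤ m + 1
    swap
    · exact ⟨T, 𝟙 T, inferInstance, 0, (Functor.map_isZero G
        (CochainComplex.isZero_of_isStrictlyGE K a (m + 1) (by omega))).eq_of_tgt _ _⟩
    have hm : m + 1 - 1 = m := by omega
    revert y
    rw [hm]
    intro y hy
    simp only [R, CochainComplex.of_d, Rd_pos K a ha] at hy
    obtain ⟨T', π, hπ, k, i, h1, -⟩ := cone_exact K (st K a m) (st K a (m + 1)) (st_succ K a m ha) p x (-y) (by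
      refine (congrArg (_ + ·) (Preadditive.neg_comp _ _)).trans ?_
      exact add_neg_eq_zero.2 hy)
    exact ⟨T', π, hπ, -k, h1.trans (Preadditive.neg_comp _ _).symm⟩
  have : Epi (HomologicalComplex.homologyMap ((FilD.grCx p).map (ρ K a)) n) := by
    rw [HomologicalComplex.epi_homologyMap_iff_up_to_refinements _ (n - 1) n (n + 1) (by simp) (by simp)]
    intro T (y : T ⟶ G.obj (RX K a n)) hy
    change y ≫ G.map ((R K a).d n (n + 1)) = 0 at hy
    by_cases ha : a ≤ n
    swap
    · exact ⟨T, 𝟙 T, inferInstance, 0, zero_comp, 0,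
        (Functor.map_isZero G (isZero_RX K a n (by omega))).eq_of_tgt _ _⟩
    obtain ⟨m, rfl⟩ : ∃ m, n = m + 1 := ⟨n - 1, by omega⟩
    simp only [R, CochainComplex.of_d, Rd_pos K a (show a ≤ m + 1 + 1 by omega)] at hy
    obtain ⟨T', π, hπ, k, i, h1, h2⟩ := cone_exact K (st K a (m + 1)) (st K a (m + 1 + 1))
      (st_succ K a (m + 1) (by omega)) p 0 y (by rw [zero_comp, zero_add]; exact hy)
    rw [comp_zero, eq_comm, neg_eq_zero] at h1
    refine ⟨T', π, hπ, k, h1, ?_⟩
    have hm : m + 1 - 1 = m := by omega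
    rw [hm]
    refine ⟨i ≫ G.map (eqToHom (congrArg St.I (st_succ K a m ha))), ?_⟩
    refine h2.trans (congrArg (k ≫ G.map ((ρ K a).f (m + 1)) + ·) ?_)
    change _ = (i ≫ G.map _) ≫ G.map ((R K a).d m (m + 1))
    simp only [R, CochainComplex.of_d, Rd_pos K a ha, Category.assoc, ← Functor.map_comp, dd]
    congr 2
    rw [eqToHom_trans_assoc, eqToHom_refl, Category.id_comp]
  exact isIso_of_mono_of_epi _

/-- Every bounded below complex has a strict filtered injective resolution. -/
theorem exists_resolution : ∃ (I : CochainComplex (FilD.FilF A) ℤ) (φ : K ⟶ I), I.IsStrictlyGE a ∧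
    (∀ n, FilD.IsFilteredInjective (I.X n)) ∧ FilD.IsFilteredQuasiIso φ ∧
    ∀ n, Mono (φ.f n) ∧ FilD.IsStrict (φ.f n) :=
  ⟨R K a, ρ K a, inferInstance, fun n => (emb (st K a n)).inj,
    fun p => ⟨fun n => quasiIsoAt_ρ K a p n⟩, fun n => ⟨mono_ρ K a n, isStrict_of_str (str_ρ K a n)⟩⟩

end GrothLib.FilInj
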