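import Groth.Prelude.Def_FilD
import Mathlib

/-!
# Strictness through generalised elements, and extension into filtered injective objects
-/

universe v u

open CategoryTheory Limits Opposite

namespace GrothLib.FilInj

variable {A : Type u} [Category.{v} A] [Abelian A]

/-- Two compatible maps into an injective object extend. -/
theorem glue' {B C Y I : A} [Injective I] (a : B ⟶ Y) (b : C ⟶ Y) (α : B ⟶ I) (β : C ⟶ I)
    (h : ∀ {T : A} (p : T ⟶ B) (q : T ⟶ C), p ≫ a = q ≫ b → p ≫ α = q ≫ β) :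
    ∃ f : Y ⟶ I, a ≫ f = α ∧ b ≫ f = β := by
  let m : B ⊞ C ⟶ Y := biprod.desc a b
  have hk : kernel.ι (Abelian.factorThruImage m) ≫ biprod.desc α β = 0 := by
    let k := kernel.ι (Abelian.factorThruImage m)
    have hkm : k ≫ m = 0 :=
      calc k ≫ m = k ≫ (Abelian.factorThruImage m ≫ Abelian.image.ι m) := by rw [Abelian.image.fac]
        _ = 0 := by rw [← Category.assoc, kernel.condition, zero_comp]
    have h2 := h (k ≫ biprod.fst) (-(k ≫ biprod.snd)) (by
      rw [Preadditive.neg_comp, eq_neg_iff_add_eq_zero, Category.assoc, Category.assoc,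
        ← Preadditive.comp_add]
      convert hkm using 2
      simp [m, biprod.desc_eq])
    rw [Preadditive.neg_comp, eq_neg_iff_add_eq_zero, Category.assoc, Category.assoc,
      ← Preadditive.comp_add, ← biprod.desc_eq] at h2
    exact h2
  let γ := Abelian.epiDesc (Abelian.factorThruImage m) (biprod.desc α β) hk
  have hmf : m ≫ Injective.factorThru γ (Abelian.image.ι m) = biprod.desc α β :=
    calc m ≫ Injective.factorThru γ (Abelian.image.ι m)
        = (Abelian.factorThruImage m ≫ Abelian.image.ι m) ≫ Injective.factorThru γ (Abelian.image.ι m) := by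
          rw [Abelian.image.fac]
      _ = biprod.desc α β := by
          rw [Category.assoc, Injective.comp_factorThru, Abelian.comp_epiDesc]
  refine ⟨Injective.factorThru γ (Abelian.image.ι m), ?_, ?_⟩
  · calc a ≫ Injective.factorThru γ (Abelian.image.ι m)
        = (biprod.inl ≫ m) ≫ Injective.factorThru γ (Abelian.image.ι m) := by simp [m]
      _ = α := by rw [Category.assoc, hmf, biprod.inl_desc]
  · calc b ≫ Injective.factorThru γ (Abelian.image.ι m)
        = (biprod.inr ≫ m) ≫ Injective.factorThru γ (Abelian.image.ι m) := by simp [m]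
      _ = β := by rw [Category.assoc, hmf, biprod.inr_desc]

/-- The transition map from degree `q` to degree `p`. -/
noncomputable abbrev tm (X : FilD.FilF A) {p q : ℤ} (h : p ≤ q) : X.obj.obj (op q) ⟶ X.obj.obj (op p) :=
  X.obj.map (homOfLE h).op

lemma le1 (p : ℤ) : p ≤ p + 1 := Int.le_add_one le_rfl

instance tm_mono (X : FilD.FilF A) {p q : ℤ} (h : p ≤ q) : Mono (tm X h) := X.property.1 _

lemma tm_tm (X : FilD.FilF A) {p q r : ℤ} (h : p ≤ q) (h' : q ≤ r) :
    tm X h' ≫ tm X h = tm X (h.trans h') := by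
  rw [tm, tm, ← Functor.map_comp]; rfl

lemma tm_self (X : FilD.FilF A) {p : ℤ} (h : p ≤ p) : tm X h = 𝟙 _ := by
  rw [tm, show (homOfLE h).op = 𝟙 (op p) from rfl, X.obj.map_id]

variable {X Y : FilD.FilF A}

lemma tm_app (φ : X ⟶ Y) {p q : ℤ} (h : p ≤ q) :
    tm X h ≫ φ.hom.app (op p) = φ.hom.app (op q) ≫ tm Y h := φ.hom.naturality _

/-- The projection to the graded piece. -/
noncomputable def grπ (X : FilD.FilF A) (p : ℤ) : X.obj.obj (op p) ⟶ (FilD.grF A p).obj X :=
  cokernel.π (X.obj.map (FilD.stepHom p))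

instance grπ_epi (X : FilD.FilF A) (p : ℤ) : Epi (grπ X p) :=
  inferInstanceAs (Epi (cokernel.π (X.obj.map (FilD.stepHom p))))

lemma tm_grπ (X : FilD.FilF A) (p : ℤ) : tm X (le1 p) ≫ grπ X p = 0 := cokernel.condition _

lemma grπ_naturality (φ : X ⟶ Y) (p : ℤ) :
    φ.hom.app (op p) ≫ grπ Y p = grπ X p ≫ (FilD.grF A p).map φ :=
  (cokernel.π_desc _ _ _).symm

lemma exists_of_grπ_eq_zero {T : A} (p : ℤ) (y : T ⟶ X.obj.obj (op p)) (h : y ≫ grπ X p = 0) :
    ∃ y' : T ⟶ X.obj.obj (op (p + 1)), y' ≫ tm X (le1 p) = y :=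
  ⟨Abelian.monoLift (tm X (le1 p)) y h, Abelian.monoLift_comp _ _ _⟩

/-- Strictness in terms of generalised elements. -/
def Str (φ : X ⟶ Y) : Prop :=
  ∀ (p q : ℤ) (h : p ≤ q) {T : A} (y : T ⟶ X.obj.obj (op p)) (z : T ⟶ Y.obj.obj (op q)),
    y ≫ φ.hom.app (op p) = z ≫ tm Y h →
      ∃ (T' : A) (π : T' ⟶ T) (_ : Epi π) (y' : T' ⟶ X.obj.obj (op q)), y' ≫ φ.hom.app (op q) = π ≫ z

theorem str_of_step (φ : X ⟶ Y)
    (H : ∀ (p : ℤ) {T : A} (y : T ⟶ X.obj.obj (op p)) (z : T ⟶ Y.obj.obj (op (p + 1))),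
      y ≫ φ.hom.app (op p) = z ≫ tm Y (le1 p) →
      ∃ (T' : A) (π : T' ⟶ T) (_ : Epi π) (y' : T' ⟶ X.obj.obj (op (p + 1))),
        y' ≫ φ.hom.app (op (p + 1)) = π ≫ z) : Str φ := by
  suffices ∀ (k : ℕ) (p q : ℤ) (h : p ≤ q), q = p + k → ∀ {T : A} (y : T ⟶ X.obj.obj (op p))
      (z : T ⟶ Y.obj.obj (op q)), y ≫ φ.hom.app (op p) = z ≫ tm Y h →
      ∃ (T' : A) (π : T' ⟶ T) (_ : Epi π) (y' : T' ⟶ X.obj.obj (op q)), y' ≫ φ.hom.app (op q) = π ≫ z from
    fun p q h {T} y z e => this (q - p).toNat p q h (by omega) y z e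
  intro k
  induction k with
  | zero =>
    intro p q h hq T y z e
    obtain rfl : q = p := by omega
    exact ⟨T, 𝟙 T, inferInstance, y, by rw [e, tm_self, Category.comp_id, Category.id_comp]⟩
  | succ k ih =>
    intro p q h hq T y z e
    have h1 : p + 1 ≤ q := by omega
    obtain ⟨T₁, π₁, _, y₁, hy₁⟩ := H p y (z ≫ tm Y h1) (by rw [e, Category.assoc, tm_tm])
    obtain ⟨T₂, π₂, _, y₂, hy₂⟩ := ih (p + 1) q h1 (by omega) y₁ (π₁ ≫ z) (by rw [hy₁, Category.assoc])
    exact ⟨T₂, π₂ ≫ π₁, inferInstance, y₂, by rw [hy₂, Category.assoc]⟩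

theorem subobject_le {B : A} {S S' : Subobject B} {T : A} (π : T ⟶ (S : A)) [Epi π] (w : T ⟶ (S' : A))
    (h : w ≫ S'.arrow = π ≫ S.arrow) : S ≤ S' := by
  have h0 : S.arrow ≫ cokernel.π S'.arrow = 0 := by
    rw [← cancel_epi π, ← reassoc_of% h, cokernel.condition, comp_zero, comp_zero]
  exact Subobject.le_of_comm (Abelian.monoLift S'.arrow S.arrow h0) (Abelian.monoLift_comp _ _ _)

theorem isStrict_of_str {φ : X ⟶ Y} (H : Str φ) : FilD.IsStrict φ := by
  intro p q h
  refine le_antisymm (le_inf ?_ ?_) ?_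
  · exact (le_of_eq (by congr 1; exact (φ.hom.naturality _).symm)).trans
      (imageSubobject_comp_le (X.obj.map (homOfLE h).op) (φ.hom.app (op p)))
  · haveI := Y.property.1 (homOfLE h).op
    exact imageSubobject_le _ (φ.hom.app (op q) ≫ (Subobject.underlyingIso (Y.obj.map (homOfLE h).op)).inv) (by simp)
  · haveI := Y.property.1 (homOfLE h).op
    set S := imageSubobject (φ.hom.app (op p)) ⊓ Subobject.mk (Y.obj.map (homOfLE h).op) with hS
    have f1 : (imageSubobject (φ.hom.app (op p))).Factors S.arrow :=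
      Subobject.factors_of_le _ inf_le_left ((Subobject.factors_iff _ _).2 ⟨𝟙 _, Category.id_comp _⟩)
    have f2 : (Subobject.mk (Y.obj.map (homOfLE h).op)).Factors S.arrow :=
      Subobject.factors_of_le _ inf_le_right ((Subobject.factors_iff _ _).2 ⟨𝟙 _, Category.id_comp _⟩)
    obtain ⟨z, hz⟩ := (Subobject.mk_factors_iff _ _).1 f2
    obtain ⟨T₁, π₁, _, y, hy⟩ := surjective_up_to_refinements_of_epi
      (factorThruImageSubobject (φ.hom.app (op p))) (Subobject.factorThru _ _ f1)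
    have hy' : π₁ ≫ S.arrow = y ≫ φ.hom.app (op p) := by
      have := congrArg (· ≫ (imageSubobject (φ.hom.app (op p))).arrow) hy
      simpa using this
    obtain ⟨T₂, π₂, _, y', hy''⟩ := H p q h y (π₁ ≫ z) (by rw [← hy', ← hz, Category.assoc]; rfl)
    refine subobject_le (π₂ ≫ π₁) (y' ≫ factorThruImageSubobject _) ?_
    simp only [Category.assoc, imageSubobject_arrow_comp]
    rw [reassoc_of% hy'']
    exact congrArg (fun t => π₂ ≫ π₁ ≫ t) hz

theorem str_of_isStrict {φ : X ⟶ Y} (H : FilD.IsStrict φ) : Str φ := by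
  intro p q h T y z e
  have hf : (imageSubobject (φ.hom.app (op q) ≫ Y.obj.map (homOfLE h).op)).Factors (y ≫ φ.hom.app (op p)) := by
    rw [H p q h, Subobject.inf_factors]
    refine ⟨imageSubobject_factors_comp_self _ _, ?_⟩
    rw [Subobject.mk_factors_iff]
    exact ⟨z, e.symm⟩
  obtain ⟨T', π, hπ, v, hv⟩ := surjective_up_to_refinements_of_epi
    (factorThruImageSubobject (φ.hom.app (op q) ≫ Y.obj.map (homOfLE h).op)) (Subobject.factorThru _ _ hf)
  refine ⟨T', π, hπ, v, ?_⟩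
  have h2 := congrArg (· ≫ (imageSubobject _).arrow) hv
  simp only [Category.assoc, Subobject.factorThru_arrow, imageSubobject_arrow_comp] at h2
  rw [← cancel_mono (tm Y h), Category.assoc, Category.assoc, ← e]
  exact h2.symm

section Exact

variable (S : ShortComplex (FilD.FilF A))

lemma zero_app (p : ℤ) : S.f.hom.app (op p) ≫ S.g.hom.app (op p) = 0 :=
  congrArg (fun φ : S.X₁ ⟶ S.X₃ => φ.hom.app (op p)) S.zero

/-- Exactness on graded pieces gives exactness on filtration steps. -/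
theorem exact_step (hS : ∀ p : ℤ, (S.map (FilD.grF A p)).Exact) (p : ℤ) {T : A}
    (y : T ⟶ S.X₂.obj.obj (op p)) (hy : y ≫ S.g.hom.app (op p) = 0) :
    ∃ (T' : A) (π : T' ⟶ T) (_ : Epi π) (x : T' ⟶ S.X₁.obj.obj (op p)),
      π ≫ y = x ≫ S.f.hom.app (op p) := by
  obtain ⟨b, hb⟩ := S.X₂.property.2.1
  suffices ∀ (k : ℕ) (p : ℤ), b ≤ p + k → ∀ {T : A} (y : T ⟶ S.X₂.obj.obj (op p)),
      y ≫ S.g.hom.app (op p) = 0 →
      ∃ (T' : A) (π : T' ⟶ T) (_ : Epi π) (x : T' ⟶ S.X₁.obj.obj (op p)),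
        π ≫ y = x ≫ S.f.hom.app (op p) from this (b - p).toNat p (by omega) y hy
  intro k
  induction k with
  | zero => intro p hp T y _; exact ⟨T, 𝟙 T, inferInstance, 0, (hb p (by omega)).eq_of_tgt _ _⟩
  | succ k ih =>
    intro p hp T y hy
    obtain ⟨T₁, π₁, _, (w : T₁ ⟶ (FilD.grF A p).obj S.X₁), hw⟩ := (hS p).exact_up_to_refinements (y ≫ grπ S.X₂ p) (by
      change (y ≫ grπ S.X₂ p) ≫ (FilD.grF A p).map S.g = 0
      rw [Category.assoc, ← grπ_naturality, reassoc_of% hy, zero_comp])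
    obtain ⟨T₂, π₂, _, x, hx⟩ := surjective_up_to_refinements_of_epi (grπ S.X₁ p) w
    obtain ⟨y', hy'⟩ := exists_of_grπ_eq_zero p (π₂ ≫ π₁ ≫ y - x ≫ S.f.hom.app (op p)) (by
      change π₁ ≫ y ≫ grπ S.X₂ p = w ≫ (FilD.grF A p).map S.f at hw
      rw [Preadditive.sub_comp, sub_eq_zero, Category.assoc, Category.assoc, Category.assoc, hw,
        reassoc_of% hx, grπ_naturality])
    obtain ⟨T₃, π₃, _, x', hx'⟩ := ih (p + 1) (by omega) y' (by
      rw [← cancel_mono (tm S.X₃ (le1 p)), Category.assoc, ← tm_app, reassoc_of% hy', zero_comp,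
        Preadditive.sub_comp, Category.assoc, Category.assoc, hy, comp_zero, comp_zero, Category.assoc,
        zero_app, comp_zero, sub_zero])
    refine ⟨T₃, π₃ ≫ π₂ ≫ π₁, inferInstance, x' ≫ tm S.X₁ (le1 p) + π₃ ≫ x, ?_⟩
    rw [Preadditive.add_comp, Category.assoc x', tm_app, ← reassoc_of% hx', hy', Preadditive.comp_sub]
    simp

theorem str_g (hS : ∀ p : ℤ, (S.map (FilD.grF A p)).Exact) : Str S.g := by
  refine str_of_step _ fun p T y z e => ?_
  obtain ⟨T₁, π₁, _, (w : T₁ ⟶ (FilD.grF A p).obj S.X₁), hw⟩ := (hS p).exact_up_to_refinements (y ≫ grπ S.X₂ p) (by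
    change (y ≫ grπ S.X₂ p) ≫ (FilD.grF A p).map S.g = 0
    rw [Category.assoc, ← grπ_naturality, reassoc_of% e, tm_grπ, comp_zero])
  obtain ⟨T₂, π₂, _, x, hx⟩ := surjective_up_to_refinements_of_epi (grπ S.X₁ p) w
  obtain ⟨y', hy'⟩ := exists_of_grπ_eq_zero p (π₂ ≫ π₁ ≫ y - x ≫ S.f.hom.app (op p)) (by
    change π₁ ≫ y ≫ grπ S.X₂ p = w ≫ (FilD.grF A p).map S.f at hw
    rw [Preadditive.sub_comp, sub_eq_zero, Category.assoc, Category.assoc, Category.assoc, hw,
      reassoc_of% hx, grπ_naturality])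
  refine ⟨T₂, π₂ ≫ π₁, inferInstance, y', ?_⟩
  rw [← cancel_mono (tm S.X₃ (le1 p)), Category.assoc, ← tm_app, reassoc_of% hy',
    Preadditive.sub_comp, Category.assoc, Category.assoc, Category.assoc, zero_app, comp_zero,
    sub_zero, e, Category.assoc, Category.assoc]

theorem str_f (hS : ∀ p : ℤ, (S.map (FilD.grF A p)).Exact) : Str S.f := by
  intro p q h T y z e
  obtain ⟨T', π, hπ, x, hx⟩ := exact_step S hS q z (by
    rw [← cancel_mono (tm S.X₃ h), Category.assoc, ← tm_app, ← reassoc_of% e, zero_app, comp_zero,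
      zero_comp])
  exact ⟨T', π, hπ, x, hx.symm⟩

end Exact

theorem injective_obj' {I : FilD.FilF A} (hI : FilD.IsFilteredInjective I) (p : ℤ) :
    Injective (I.obj.obj (op p)) := by
  obtain ⟨b, hb⟩ := I.property.2.1
  suffices ∀ (k : ℕ) (p : ℤ), b ≤ p + k → Injective (I.obj.obj (op p)) from
    this (b - p).toNat p (by omega)
  intro k
  induction k with
  | zero => intro p hp; exact (hb p (by omega)).injective
  | succ k ih =>
    intro p hp
    haveI := ih (p + 1) (by omega)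
    haveI : Injective ((FilD.grF A p).obj I) := hI p
    refine ⟨fun {A' B'} h m _ => ?_⟩
    obtain ⟨c, hc⟩ : ∃ c : B' ⟶ I.obj.obj (op p), (m ≫ c - h) ≫ grπ I p = 0 := by
      let r := Injective.factorThru (𝟙 (I.obj.obj (op (p + 1)))) (tm I (le1 p))
      have hr : tm I (le1 p) ≫ r = 𝟙 _ := Injective.comp_factorThru _ _
      let s : (FilD.grF A p).obj I ⟶ I.obj.obj (op p) :=
        cokernel.desc _ (𝟙 _ - r ≫ tm I (le1 p)) (by
          change tm I (le1 p) ≫ _ = 0
          rw [Preadditive.comp_sub, reassoc_of% hr, Category.comp_id, sub_self])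
      have hs : grπ I p ≫ s = 𝟙 _ - r ≫ tm I (le1 p) := cokernel.π_desc _ _ _
      have hsπ : s ≫ grπ I p = 𝟙 _ := by
        rw [← cancel_epi (grπ I p), reassoc_of% hs, Preadditive.sub_comp, Category.assoc, tm_grπ,
          comp_zero, sub_zero, Category.comp_id, Category.id_comp]
      refine ⟨Injective.factorThru (h ≫ grπ I p) m ≫ s, ?_⟩
      rw [Preadditive.sub_comp, Category.assoc, Category.assoc, hsπ, Category.comp_id,
        Injective.comp_factorThru, sub_self]
    obtain ⟨d, hd⟩ := exists_of_grπ_eq_zero p _ hc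
    refine ⟨c - Injective.factorThru d m ≫ tm I (le1 p), ?_⟩
    rw [Preadditive.comp_sub, Injective.comp_factorThru_assoc, hd, sub_sub_cancel]

section Extend

variable {I : FilD.FilF A} (u : X ⟶ Y) (hu : Str u) (hI : FilD.IsFilteredInjective I) (f : X ⟶ I)
  (hk : ∀ (p : ℤ) {T : A} (x : T ⟶ X.obj.obj (op p)), x ≫ u.hom.app (op p) = 0 → x ≫ f.hom.app (op p) = 0)

include hu hI hk in
lemma exists_step' (p : ℤ) (g : { g : Y.obj.obj (op (p + 1)) ⟶ I.obj.obj (op (p + 1)) //
    u.hom.app (op (p + 1)) ≫ g = f.hom.app (op (p + 1)) }) :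
    ∃ g' : { g : Y.obj.obj (op p) ⟶ I.obj.obj (op p) // u.hom.app (op p) ≫ g = f.hom.app (op p) },
      tm Y (le1 p) ≫ g'.1 = g.1 ≫ tm I (le1 p) := by
  haveI := injective_obj' hI p
  obtain ⟨g', h1, h2⟩ := glue' (tm Y (le1 p)) (u.hom.app (op p)) (g.1 ≫ tm I (le1 p)) (f.hom.app (op p))
    (fun a q e => by
      obtain ⟨T', π, _, x', hx'⟩ := hu p (p + 1) (le1 p) q a e.symm
      have hz := hk p (π ≫ q - x' ≫ tm X (le1 p)) (by
        rw [Preadditive.sub_comp, Category.assoc, Category.assoc, tm_app, ← e, reassoc_of% hx', sub_self])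
      rw [Preadditive.sub_comp, sub_eq_zero, Category.assoc, Category.assoc, tm_app] at hz
      rw [← cancel_epi π, hz, ← reassoc_of% g.2, reassoc_of% hx'])
  exact ⟨⟨g', h2⟩, h1⟩

variable (b : ℤ) (hXb : ∀ p, b ≤ p → IsZero (X.obj.obj (op p)))

/-- The extension in each degree. -/
noncomputable def gs' (p : ℤ) :
    { g : Y.obj.obj (op p) ⟶ I.obj.obj (op p) // u.hom.app (op p) ≫ g = f.hom.app (op p) } :=
  if h : b ≤ p then ⟨0, (hXb p h).eq_of_src _ _⟩
  else (exists_step' u hu hI f hk p (gs' (p + 1))).choose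
termination_by (b - p).toNat
decreasing_by omega

include hu hI hk in
/-- A map killing the kernel of a strict map extends into a filtered injective object. -/
theorem exists_extend' : ∃ g : Y ⟶ I, u ≫ g = f := by
  obtain ⟨b₁, hb₁⟩ := X.property.2.1
  obtain ⟨b₂, hb₂⟩ := Y.property.2.1
  let b := max b₁ b₂
  have hXb : ∀ p, b ≤ p → IsZero (X.obj.obj (op p)) := fun p hp => hb₁ p (by omega)
  let G := gs' u hu hI f hk b hXb
  have hG : ∀ p, tm Y (le1 p) ≫ (G p).1 = (G (p + 1)).1 ≫ tm I (le1 p) := by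
    intro p
    by_cases h : b ≤ p
    · exact (hb₂ (p + 1) (by omega)).eq_of_src _ _
    · simp only [G]
      conv_lhs => rw [gs', dif_neg h]
      exact (exists_step' u hu hI f hk p _).choose_spec
  have hmap : ∀ (k : ℕ) (p q : ℤ) (h : p ≤ q), q = p + k →
      tm Y h ≫ (G p).1 = (G q).1 ≫ tm I h := by
    intro k
    induction k with
    | zero =>
      intro p q h hq
      obtain rfl : q = p := by omega
      rw [tm_self, tm_self, Category.id_comp, Category.comp_id]
    | succ k ih =>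
      intro p q h hq
      have h1 : p + 1 ≤ q := by omega
      rw [← tm_tm Y (le1 p) h1, ← tm_tm I (le1 p) h1, Category.assoc, hG p, ← Category.assoc,
        ih (p + 1) q h1 (by omega), Category.assoc]
  refine ⟨ObjectProperty.homMk
    { app := fun P => (G P.unop).1
      naturality := fun P Q φ => hmap (P.unop - Q.unop).toNat _ _ (leOfHom φ.unop) (by
        have := leOfHom φ.unop
        omega) }, ?_⟩
  ext P
  exact (G P.unop).2

end Extend

end GrothLib.FilInj
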