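import Groth.Agent.Lib.FilInj.Biprod

/-!
# Truncation below of filtered complexes
-/

universe v u

open CategoryTheory Limits Opposite

namespace GrothLib.FilInj

variable {A : Type u} [Category.{v} A] [Abelian A]

/-- A strict map. -/
theorem str_id (X : FilD.FilF A) : Str (𝟙 X) := fun p q h T y z e =>
  ⟨T, 𝟙 T, inferInstance, z, (Category.comp_id _).trans (Category.id_comp _).symm⟩

theorem str_zero (X Y : FilD.FilF A) : Str (0 : X ⟶ Y) := fun p q h T y z e => by
  refine ⟨T, 𝟙 T, inferInstance, 0, ?_⟩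
  rw [← cancel_mono (tm Y h), zero_comp, zero_comp, Category.id_comp, ← e]
  exact comp_zero.symm

section Coker

variable {P X : FilD.FilF A} (s : P ⟶ X) (hs : Str s)

/-- The cokernel of a strict map. -/
noncomputable def coker : FilD.FilF A := ⟨cokernel s.hom, isFinFil_cokernel s hs⟩

/-- The projection to the cokernel. -/
noncomputable def cokerπ : X ⟶ coker s hs := ObjectProperty.homMk (cokernel.π s.hom)

theorem coker_condition : s ≫ cokerπ s hs = 0 := ObjectProperty.hom_ext _ (cokernel.condition s.hom)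

/-- Maps out of the cokernel. -/
noncomputable def cokerDesc {Y : FilD.FilF A} (f : X ⟶ Y) (h : s ≫ f = 0) : coker s hs ⟶ Y :=
  ObjectProperty.homMk (cokernel.desc s.hom f.hom (congrArg (fun t : P ⟶ Y => t.hom) h))

theorem cokerπ_desc {Y : FilD.FilF A} (f : X ⟶ Y) (h : s ≫ f = 0) :
    cokerπ s hs ≫ cokerDesc s hs f h = f :=
  ObjectProperty.hom_ext _ (cokernel.π_desc s.hom f.hom _)

instance epi_cokerπ_app (p : ℤ) : Epi ((cokerπ s hs).hom.app (op p)) :=
  inferInstanceAs (Epi ((cokernel.π s.hom).app (op p)))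

instance epi_cokerπ : Epi (cokerπ s hs) := ⟨fun {Y} g h e => ObjectProperty.hom_ext _
  ((cancel_epi (cokernel.π s.hom)).1 (congrArg (fun t : X ⟶ Y => t.hom) e))⟩

instance epi_gr_cokerπ (p : ℤ) : Epi ((FilD.grF A p).map (cokerπ s hs)) := by
  have : Epi (grπ X p ≫ (FilD.grF A p).map (cokerπ s hs)) := by
    rw [← grπ_naturality]
    exact epi_comp _ _
  exact epi_of_epi (grπ X p) _

theorem exact_app_coker (p : ℤ) {T : A} (c : T ⟶ X.obj.obj (op p)) (hc : c ≫ (cokerπ s hs).hom.app (op p) = 0) :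
    ∃ (T' : A) (π : T' ⟶ T) (_ : Epi π) (y : T' ⟶ P.obj.obj (op p)), π ≫ c = y ≫ s.hom.app (op p) :=
  (ShortComplex.exact_of_g_is_cokernel
    (ShortComplex.mk (s.hom.app (op p)) ((cokernel.π s.hom).app (op p))
      (by rw [← NatTrans.comp_app, cokernel.condition, NatTrans.app_zero]))
    (CokernelCofork.mapIsColimit _ (cokernelIsCokernel s.hom) ((evaluation ℤᵒᵖ A).obj (op p)))).exact_up_to_refinements
    c hc

theorem gr_exact_coker (p : ℤ) {T : A} (w : T ⟶ (FilD.grF A p).obj X)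
    (hw : w ≫ (FilD.grF A p).map (cokerπ s hs) = 0) :
    ∃ (T' : A) (π : T' ⟶ T) (_ : Epi π) (v : T' ⟶ (FilD.grF A p).obj P),
      π ≫ w = v ≫ (FilD.grF A p).map s := by
  obtain ⟨T₁, π₁, _, c, hc⟩ := surjective_up_to_refinements_of_epi (grπ X p) w
  obtain ⟨z, hz⟩ := exists_of_grπ_eq_zero p (c ≫ (cokerπ s hs).hom.app (op p)) (by
    rw [Category.assoc, grπ_naturality, ← Category.assoc, ← hc, Category.assoc, hw, comp_zero])
  obtain ⟨T₂, π₂, _, c', hc'⟩ := surjective_up_to_refinements_of_epi ((cokerπ s hs).hom.app (op (p + 1))) z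
  obtain ⟨T₃, π₃, _, y, hy⟩ := exact_app_coker s hs p (π₂ ≫ c - c' ≫ tm X (le1 p)) (by
    rw [Preadditive.sub_comp, sub_eq_zero, Category.assoc, Category.assoc, tm_app, ← reassoc_of% hc', hz])
  refine ⟨T₃, π₃ ≫ π₂ ≫ π₁, inferInstance, y ≫ grπ P p, ?_⟩
  rw [Category.assoc y, ← grπ_naturality, ← Category.assoc y, ← hy]
  simp only [Category.assoc, Preadditive.sub_comp, tm_grπ, comp_zero, sub_zero, hc]

end Coker

variable (K : CochainComplex (FilD.FilF A) ℤ) (a : ℤ)

/-- What is divided out in degree `n`. -/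
structure Cut (n : ℤ) where
  P : FilD.FilF A
  s : P ⟶ K.X n
  str : Str s
  low : n < a → ∃ r : K.X n ⟶ P, r ≫ s = 𝟙 _
  bdry : n ≤ a → ∃ r : K.X (n - 1) ⟶ P, r ≫ s = K.d (n - 1) n
  high : a ≤ n → ∃ t : P ⟶ K.X (n - 1), t ≫ K.d (n - 1) n = s ∧ (a ≤ n - 1 → t = 0)

variable (hK : ∀ (p n : ℤ), n < a → ((FilD.grCx p).obj K).ExactAt n)

include hK in
theorem nonempty_cut (n : ℤ) : Nonempty (Cut K a n) := by
  rcases lt_trichotomy n a with h | h | h
  · exact ⟨⟨K.X n, 𝟙 _, str_id _, fun _ => ⟨𝟙 _, Category.comp_id _⟩,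
      fun _ => ⟨K.d (n - 1) n, Category.comp_id _⟩, fun h' => absurd h' (by omega)⟩⟩
  · refine ⟨⟨K.X (n - 1), K.d (n - 1) n, ?_, fun h' => absurd h' (by omega),
      fun _ => ⟨𝟙 _, Category.id_comp _⟩, fun _ => ⟨𝟙 _, Category.id_comp _, fun h' => absurd h' (by omega)⟩⟩⟩
    exact str_g (K.sc' (n - 1 - 1) (n - 1) n) fun p =>
      (HomologicalComplex.exactAt_iff' ((FilD.grCx p).obj K) _ _ _ (by simp) (by simp)).1 (hK p (n - 1) (by omega))
  · exact ⟨⟨K.X n, 0, str_zero _ _, fun h' => absurd h' (by omega), fun h' => absurd h' (by omega),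
      fun _ => ⟨0, zero_comp, fun _ => rfl⟩⟩⟩

/-- A choice of cut. -/
noncomputable def cut (n : ℤ) : Cut K a n := (nonempty_cut K a hK n).some

/-- The terms of the truncation. -/
noncomputable abbrev LX (n : ℤ) : FilD.FilF A := coker (cut K a hK n).s (cut K a hK n).str

/-- The projection to the truncation. -/
noncomputable abbrev pr (n : ℤ) : K.X n ⟶ LX K a hK n := cokerπ (cut K a hK n).s (cut K a hK n).str

theorem pr_eq_zero (n : ℤ) (h : n < a) : pr K a hK n = 0 := by
  obtain ⟨r, hr⟩ := (cut K a hK n).low h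
  calc pr K a hK n = 𝟙 _ ≫ pr K a hK n := (Category.id_comp _).symm
    _ = (r ≫ (cut K a hK n).s) ≫ pr K a hK n := by rw [hr]
    _ = 0 := by rw [Category.assoc, coker_condition]; exact comp_zero

theorem s_d_pr (n : ℤ) : (cut K a hK n).s ≫ K.d n (n + 1) ≫ pr K a hK (n + 1) = 0 := by
  by_cases h : a ≤ n
  · obtain ⟨t, ht, -⟩ := (cut K a hK n).high h
    rw [← ht, Category.assoc, ← Category.assoc (K.d (n - 1) n), K.d_comp_d, zero_comp, comp_zero]
  · obtain ⟨r, hr⟩ := (cut K a hK (n + 1)).bdry (by omega)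
    have h2 : K.d n (n + 1) ≫ pr K a hK (n + 1) = 0 := by
      have h3 : K.d (n + 1 - 1) (n + 1) ≫ pr K a hK (n + 1) = 0 := by
        rw [← hr, Category.assoc, coker_condition]; exact comp_zero
      rwa [show n + 1 - 1 = n by omega] at h3
    rw [h2, comp_zero]

/-- The differential of the truncation. -/
noncomputable def Ld (n : ℤ) : LX K a hK n ⟶ LX K a hK (n + 1) :=
  cokerDesc _ _ (K.d n (n + 1) ≫ pr K a hK (n + 1)) (s_d_pr K a hK n)

theorem pr_Ld (n : ℤ) : pr K a hK n ≫ Ld K a hK n = K.d n (n + 1) ≫ pr K a hK (n + 1) :=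
  cokerπ_desc _ _ _ _

/-- The truncation. -/
noncomputable def L : CochainComplex (FilD.FilF A) ℤ :=
  CochainComplex.of (LX K a hK) (Ld K a hK) fun n => by
    rw [← cancel_epi (pr K a hK n), reassoc_of% (pr_Ld K a hK n), pr_Ld, ← Category.assoc, K.d_comp_d,
      zero_comp, comp_zero]

/-- The projection. -/
noncomputable def prHom : K ⟶ L K a hK where
  f n := pr K a hK n
  comm' i j hij := by
    obtain rfl : i + 1 = j := hij
    simp only [L, CochainComplex.of_d]
    exact pr_Ld K a hK i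

theorem isZero_LX (n : ℤ) (h : n < a) : IsZero (LX K a hK n) := by
  rw [IsZero.iff_id_eq_zero, ← cancel_epi (pr K a hK n)]
  simp [pr_eq_zero K a hK n h]

instance isStrictlyGE_L : (L K a hK).IsStrictlyGE a :=
  (CochainComplex.isStrictlyGE_iff _ _).2 fun n hn => isZero_LX K a hK n hn

theorem quasiIsoAt_prHom (p n : ℤ) : QuasiIsoAt ((FilD.grCx p).map (prHom K a hK)) n := by
  rw [quasiIsoAt_iff_isIso_homologyMap]
  let G := FilD.grF A p
  have : Mono (HomologicalComplex.homologyMap ((FilD.grCx p).map (prHom K a hK)) n) := by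
    rw [HomologicalComplex.mono_homologyMap_iff_up_to_refinements _ (n - 1) n (n + 1) (by simp) (by simp)]
    intro T (x : T ⟶ G.obj (K.X n)) hx (y : T ⟶ G.obj (LX K a hK (n - 1))) hy
    by_cases h : n < a
    · obtain ⟨T', π, hπ, k, hk⟩ := ((HomologicalComplex.exactAt_iff' ((FilD.grCx p).obj K) (n - 1) n (n + 1)
        (by simp) (by simp)).1 (hK p n h)).exact_up_to_refinements x hx
      exact ⟨T', π, hπ, k, hk⟩
    obtain ⟨m, rfl⟩ : ∃ m, n = m + 1 := ⟨n - 1, by omega⟩
    have hm : m + 1 - 1 = m := by omega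
    obtain ⟨t, ht, -⟩ := (cut K a hK (m + 1)).high (not_lt.1 h)
    revert y t
    rw [hm]
    intro y hy t ht
    change x ≫ G.map (pr K a hK (m + 1)) = y ≫ G.map ((L K a hK).d m (m + 1)) at hy
    simp only [L, CochainComplex.of_d] at hy
    obtain ⟨T₁, π₁, _, k, hk⟩ := surjective_up_to_refinements_of_epi (G.map (pr K a hK m)) y
    obtain ⟨T₂, π₂, _, v, hv⟩ := gr_exact_coker _ _ p (π₁ ≫ x - k ≫ G.map (K.d m (m + 1))) (by
      rw [Preadditive.sub_comp, sub_eq_zero, Category.assoc, Category.assoc, ← G.map_comp, ← pr_Ld,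
        G.map_comp]
      exact (congrArg (π₁ ≫ ·) hy).trans ((Category.assoc _ _ _).symm.trans
        ((congrArg (· ≫ _) hk).trans (Category.assoc _ _ _))))
    refine ⟨T₂, π₂ ≫ π₁, inferInstance, v ≫ G.map t + π₂ ≫ k, ?_⟩
    change (π₂ ≫ π₁) ≫ x = (v ≫ G.map t + π₂ ≫ k) ≫ G.map (K.d m (m + 1))
    rw [Preadditive.comp_sub, sub_eq_iff_eq_add, ← ht, G.map_comp] at hv
    rw [Category.assoc, hv, Preadditive.add_comp, Category.assoc, Category.assoc]
  have : Epi (HomologicalComplex.homologyMap ((FilD.grCx p).map (prHom K a hK)) n) := by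
    rw [HomologicalComplex.epi_homologyMap_iff_up_to_refinements _ (n - 1) n (n + 1) (by simp) (by simp)]
    intro T (y : T ⟶ G.obj (LX K a hK n)) hy
    by_cases h : n < a
    · exact ⟨T, 𝟙 T, inferInstance, 0, zero_comp, 0, (G.map_isZero (isZero_LX K a hK n h)).eq_of_tgt _ _⟩
    change y ≫ G.map ((L K a hK).d n (n + 1)) = 0 at hy
    simp only [L, CochainComplex.of_d] at hy
    obtain ⟨T₁, π₁, _, k, hk⟩ := surjective_up_to_refinements_of_epi (G.map (pr K a hK n)) y
    obtain ⟨T₂, π₂, _, v, hv⟩ := gr_exact_coker _ _ p (k ≫ G.map (K.d n (n + 1))) (by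
      rw [Category.assoc, ← G.map_comp, ← pr_Ld, G.map_comp, ← Category.assoc]
      exact ((congrArg (· ≫ _) hk.symm).trans (Category.assoc _ _ _)).trans
        ((congrArg (π₁ ≫ ·) hy).trans comp_zero))
    obtain ⟨t, ht, ht0⟩ := (cut K a hK (n + 1)).high (by omega)
    have hm : n + 1 - 1 = n := by omega
    have hs : (cut K a hK (n + 1)).s = 0 := by rw [← ht, ht0 (by omega), zero_comp]
    rw [hs, Functor.map_zero, comp_zero] at hv
    refine ⟨T₂, π₂ ≫ π₁, inferInstance, π₂ ≫ k, ?_, 0, ?_⟩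
    · exact (Category.assoc _ _ _).trans hv
    · refine ((Category.assoc _ _ _).trans ((congrArg (π₂ ≫ ·) hk).trans (Category.assoc _ _ _).symm)).trans
        ((add_zero _).symm.trans ?_)
      exact congrArg (_ + ·) zero_comp.symm
  exact isIso_of_mono_of_epi _

include hK in
theorem exists_truncGE : ∃ (M : CochainComplex (FilD.FilF A) ℤ) (φ : K ⟶ M), M.IsStrictlyGE a ∧
    FilD.IsFilteredQuasiIso φ :=
  ⟨L K a hK, prHom K a hK, inferInstance, fun p => ⟨fun n => quasiIsoAt_prHom K a hK p n⟩⟩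

end GrothLib.FilInj
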