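import Groth.Agent.Lib.FilInj.TruncGE

/-!
# Truncation above of filtered complexes
-/

universe v u

open CategoryTheory Limits Opposite

namespace GrothLib.FilInj

variable {A : Type u} [Category.{v} A] [Abelian A]

section Ker

variable {X Q : FilD.FilF A} (q : X ⟶ Q)

theorem exists_lift_ker (P : ℤᵒᵖ) {T : A} (y : T ⟶ X.obj.obj P) (hy : y ≫ q.hom.app P = 0) :
    ∃ w : T ⟶ (kernel q.hom).obj P, w ≫ (kernel.ι q.hom).app P = y :=
  ⟨(KernelFork.mapIsLimit _ (kernelIsKernel q.hom) ((evaluation ℤᵒᵖ A).obj P)).lift (KernelFork.ofι y hy),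
    (KernelFork.mapIsLimit _ (kernelIsKernel q.hom) ((evaluation ℤᵒᵖ A).obj P)).fac (KernelFork.ofι y hy)
      WalkingParallelPair.zero⟩

theorem isFinFil_kernel : FilD.IsFinFil A (kernel q.hom) := by
  let ι := kernel.ι q.hom
  have hι : ∀ R, Mono (ι.app R) := fun R => inferInstance
  have hmono : ∀ ⦃R S : ℤᵒᵖ⦄ (f : R ⟶ S), Mono ((kernel q.hom).map f) := fun R S f => by
    have := hι R
    have := X.property.1 f
    have : Mono ((kernel q.hom).map f ≫ ι.app S) := by
      rw [ι.naturality]; exact mono_comp _ _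
    exact mono_of_mono _ (ι.app S)
  refine ⟨hmono, ?_, ?_⟩
  · obtain ⟨b, hb⟩ := X.property.2.1
    exact ⟨b, fun p hp => haveI := hι (op p); IsZero.of_mono (ι.app (op p)) (hb p hp)⟩
  · obtain ⟨a, ha⟩ := X.property.2.2
    refine ⟨a, fun R S f hR => ?_⟩
    have := ha f hR
    have := hι S
    have := hmono f
    have := Q.property.1 f
    obtain ⟨l, hl⟩ := exists_lift_ker q R (ι.app S ≫ inv (X.obj.map f)) (by
      rw [← cancel_mono (Q.obj.map f), zero_comp, Category.assoc, Category.assoc, ← q.hom.naturality,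
        IsIso.inv_hom_id_assoc, ← NatTrans.comp_app, kernel.condition, NatTrans.app_zero])
    have : IsSplitEpi ((kernel q.hom).map f) := ⟨⟨⟨l, by
      rw [← cancel_mono (ι.app S), Category.assoc, ι.naturality, ← Category.assoc, hl, Category.assoc,
        IsIso.inv_hom_id, Category.comp_id, Category.id_comp]⟩⟩⟩
    exact isIso_of_mono_of_epi _

/-- The kernel of a map. -/
noncomputable def ker : FilD.FilF A := ⟨kernel q.hom, isFinFil_kernel q⟩

/-- The inclusion of the kernel. -/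
noncomputable def kerι : ker q ⟶ X := ObjectProperty.homMk (kernel.ι q.hom)

theorem ker_condition : kerι q ≫ q = 0 := ObjectProperty.hom_ext _ (kernel.condition q.hom)

/-- Maps into the kernel. -/
noncomputable def kerLift {Y : FilD.FilF A} (f : Y ⟶ X) (h : f ≫ q = 0) : Y ⟶ ker q :=
  ObjectProperty.homMk (kernel.lift q.hom f.hom (congrArg (fun t : Y ⟶ Q => t.hom) h))

theorem kerLift_ι {Y : FilD.FilF A} (f : Y ⟶ X) (h : f ≫ q = 0) : kerLift q f h ≫ kerι q = f :=
  ObjectProperty.hom_ext _ (kernel.lift_ι q.hom f.hom _)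

instance mono_kerι : Mono (kerι q) := ⟨fun {Y} g h e => ObjectProperty.hom_ext _
  ((cancel_mono (kernel.ι q.hom)).1 (congrArg (fun t : Y ⟶ X => t.hom) e))⟩

instance mono_kerι_app (p : ℤ) : Mono ((kerι q).hom.app (op p)) :=
  inferInstanceAs (Mono ((kernel.ι q.hom).app (op p)))

theorem exists_lift_ker' (p : ℤ) {T : A} (y : T ⟶ X.obj.obj (op p)) (hy : y ≫ q.hom.app (op p) = 0) :
    ∃ w : T ⟶ (ker q).obj.obj (op p), w ≫ (kerι q).hom.app (op p) = y :=
  exists_lift_ker q (op p) y hy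

instance mono_gr_kerι (p : ℤ) : Mono ((FilD.grF A p).map (kerι q)) := by
  refine Preadditive.mono_of_cancel_zero _ fun {T} w hw => ?_
  obtain ⟨T₁, π₁, _, c, hc⟩ := surjective_up_to_refinements_of_epi (grπ (ker q) p) w
  obtain ⟨z, hz⟩ := exists_of_grπ_eq_zero p (c ≫ (kerι q).hom.app (op p)) (by
    rw [Category.assoc, grπ_naturality, ← Category.assoc, ← hc, Category.assoc, hw, comp_zero])
  obtain ⟨z', hz'⟩ := exists_lift_ker' q (p + 1) z (by
    rw [← cancel_mono (tm Q (le1 p)), zero_comp, Category.assoc, ← tm_app, ← Category.assoc, hz, Category.assoc]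
    exact (congrArg (c ≫ ·) (congrArg (fun t : ker q ⟶ Q => t.hom.app (op p)) (ker_condition q))).trans
      comp_zero)
  have h : c = z' ≫ tm (ker q) (le1 p) := by
    rw [← cancel_mono ((kerι q).hom.app (op p)), Category.assoc, tm_app, ← Category.assoc, hz', hz]
  rw [← cancel_epi π₁, comp_zero, hc, h, Category.assoc, tm_grπ, comp_zero]

theorem gr_exact_ker (hq : Str q) (p : ℤ) {T : A} (w : T ⟶ (FilD.grF A p).obj X)
    (hw : w ≫ (FilD.grF A p).map q = 0) :
    ∃ (T' : A) (π : T' ⟶ T) (_ : Epi π) (v : T' ⟶ (FilD.grF A p).obj (ker q)),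
      π ≫ w = v ≫ (FilD.grF A p).map (kerι q) := by
  obtain ⟨T₁, π₁, _, c, hc⟩ := surjective_up_to_refinements_of_epi (grπ X p) w
  obtain ⟨z, hz⟩ := exists_of_grπ_eq_zero p (c ≫ q.hom.app (op p)) (by
    rw [Category.assoc, grπ_naturality, ← Category.assoc, ← hc, Category.assoc, hw, comp_zero])
  obtain ⟨T₂, π₂, _, c', hc'⟩ := hq p (p + 1) (le1 p) c z hz.symm
  obtain ⟨y, hy⟩ :=
    exists_lift_ker' q p (π₂ ≫ c - c' ≫ tm X (le1 p)) (by
      rw [Preadditive.sub_comp, sub_eq_zero, Category.assoc, Category.assoc, tm_app, reassoc_of% hc', hz])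
  refine ⟨T₂, π₂ ≫ π₁, inferInstance, y ≫ grπ (ker q) p, ?_⟩
  rw [Category.assoc y, ← grπ_naturality, ← Category.assoc y, hy]
  simp only [Category.assoc, Preadditive.sub_comp, tm_grπ, comp_zero, sub_zero, hc]

end Ker

variable (K : CochainComplex (FilD.FilF A) ℤ) (b : ℤ)

/-- What is killed in degree `n`. -/
structure CutLE (n : ℤ) where
  Q : FilD.FilF A
  q : K.X n ⟶ Q
  str : Str q
  high : b < n → ∃ r : Q ⟶ K.X n, q ≫ r = 𝟙 _
  bdry : b ≤ n → ∃ r : Q ⟶ K.X (n + 1), q ≫ r = K.d n (n + 1)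
  low : n ≤ b → ∃ t : K.X (n + 1) ⟶ Q, K.d n (n + 1) ≫ t = q ∧ (n + 1 ≤ b → t = 0)

variable (hK : ∀ (p n : ℤ), b < n → ((FilD.grCx p).obj K).ExactAt n)

include hK in
theorem nonempty_cutLE (n : ℤ) : Nonempty (CutLE K b n) := by
  rcases lt_trichotomy b n with h | h | h
  · exact ⟨⟨K.X n, 𝟙 _, str_id _, fun _ => ⟨𝟙 _, Category.comp_id _⟩,
      fun _ => ⟨K.d n (n + 1), Category.id_comp _⟩, fun h' => absurd h' (by omega)⟩⟩
  · refine ⟨⟨K.X (n + 1), K.d n (n + 1), ?_, fun h' => absurd h' (by omega),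
      fun _ => ⟨𝟙 _, Category.comp_id _⟩, fun _ => ⟨𝟙 _, Category.comp_id _, fun h' => absurd h' (by omega)⟩⟩⟩
    exact str_f (K.sc' n (n + 1) (n + 1 + 1)) fun p =>
      (HomologicalComplex.exactAt_iff' ((FilD.grCx p).obj K) _ _ _ (by simp) (by simp)).1 (hK p (n + 1) (by omega))
  · exact ⟨⟨K.X n, 0, str_zero _ _, fun h' => absurd h' (by omega), fun h' => absurd h' (by omega),
      fun _ => ⟨0, comp_zero, fun _ => rfl⟩⟩⟩

/-- A choice of cut. -/
noncomputable def cutLE (n : ℤ) : CutLE K b n := (nonempty_cutLE K b hK n).some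

/-- The terms of the truncation. -/
noncomputable abbrev MX (n : ℤ) : FilD.FilF A := ker (cutLE K b hK n).q

/-- The inclusion of the truncation. -/
noncomputable abbrev incLE (n : ℤ) : MX K b hK n ⟶ K.X n := kerι (cutLE K b hK n).q

theorem inc_eq_zero (n : ℤ) (h : b < n) : incLE K b hK n = 0 := by
  obtain ⟨r, hr⟩ := (cutLE K b hK n).high h
  calc incLE K b hK n = incLE K b hK n ≫ 𝟙 _ := (Category.comp_id _).symm
    _ = (incLE K b hK n ≫ (cutLE K b hK n).q) ≫ r := by rw [Category.assoc, hr]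
    _ = 0 := by rw [ker_condition]; exact zero_comp

theorem inc_d_q (n : ℤ) : (incLE K b hK n ≫ K.d n (n + 1)) ≫ (cutLE K b hK (n + 1)).q = 0 := by
  by_cases h : n + 1 ≤ b
  · obtain ⟨t, ht, -⟩ := (cutLE K b hK (n + 1)).low h
    rw [← ht, Category.assoc, ← Category.assoc (K.d n (n + 1)), K.d_comp_d, zero_comp, comp_zero]
  · obtain ⟨r, hr⟩ := (cutLE K b hK n).bdry (by omega)
    have h2 : incLE K b hK n ≫ K.d n (n + 1) = 0 := by
      rw [← hr, ← Category.assoc, ker_condition]; exact zero_comp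
    rw [h2, zero_comp]

/-- The differential of the truncation. -/
noncomputable def Md (n : ℤ) : MX K b hK n ⟶ MX K b hK (n + 1) :=
  kerLift _ (incLE K b hK n ≫ K.d n (n + 1)) (inc_d_q K b hK n)

theorem Md_inc (n : ℤ) : Md K b hK n ≫ incLE K b hK (n + 1) = incLE K b hK n ≫ K.d n (n + 1) :=
  kerLift_ι _ _ _

/-- The truncation. -/
noncomputable def M : CochainComplex (FilD.FilF A) ℤ :=
  CochainComplex.of (MX K b hK) (Md K b hK) fun n => by
    rw [← cancel_mono (incLE K b hK (n + 1 + 1)), Category.assoc, Md_inc, ← Category.assoc, Md_inc,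
      Category.assoc, K.d_comp_d, zero_comp, comp_zero]

/-- The inclusion. -/
noncomputable def incHom : M K b hK ⟶ K where
  f n := incLE K b hK n
  comm' i j hij := by
    obtain rfl : i + 1 = j := hij
    simp only [M, CochainComplex.of_d]
    exact (Md_inc K b hK i).symm

theorem isZero_MX (n : ℤ) (h : b < n) : IsZero (MX K b hK n) := by
  rw [IsZero.iff_id_eq_zero, ← cancel_mono (incLE K b hK n)]
  simp [inc_eq_zero K b hK n h]

instance isStrictlyLE_M : (M K b hK).IsStrictlyLE b :=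
  (CochainComplex.isStrictlyLE_iff _ _).2 fun n hn => isZero_MX K b hK n hn

theorem exists_lift_gr (n : ℤ) (h : n ≤ b) (p : ℤ) {T : A} (x : T ⟶ (FilD.grF A p).obj (K.X n))
    (hx : n + 1 ≤ b ∨ x ≫ (FilD.grF A p).map (K.d n (n + 1)) = 0) :
    ∃ (T' : A) (π : T' ⟶ T) (_ : Epi π) (v : T' ⟶ (FilD.grF A p).obj (MX K b hK n)),
      π ≫ x = v ≫ (FilD.grF A p).map (incLE K b hK n) := by
  refine gr_exact_ker _ (cutLE K b hK n).str p x ?_
  obtain ⟨t, ht, ht0⟩ := (cutLE K b hK n).low h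
  rw [← ht, Functor.map_comp]
  rcases hx with hx | hx
  · rw [ht0 hx, Functor.map_zero, comp_zero, comp_zero]
  · rw [← Category.assoc, hx, zero_comp]

theorem quasiIsoAt_incHom (p n : ℤ) : QuasiIsoAt ((FilD.grCx p).map (incHom K b hK)) n := by
  rw [quasiIsoAt_iff_isIso_homologyMap]
  let G := FilD.grF A p
  have : Mono (HomologicalComplex.homologyMap ((FilD.grCx p).map (incHom K b hK)) n) := by
    rw [HomologicalComplex.mono_homologyMap_iff_up_to_refinements _ (n - 1) n (n + 1) (by simp) (by simp)]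
    intro T (x : T ⟶ G.obj (MX K b hK n)) hx (y : T ⟶ G.obj (K.X (n - 1))) hy
    by_cases h : b < n
    · exact ⟨T, 𝟙 T, inferInstance, 0, (G.map_isZero (isZero_MX K b hK n h)).eq_of_tgt _ _⟩
    obtain ⟨m, rfl⟩ : ∃ m, n = m + 1 := ⟨n - 1, by omega⟩
    have hm : m + 1 - 1 = m := by omega
    revert y
    rw [hm]
    intro y hy
    change x ≫ G.map (incLE K b hK (m + 1)) = y ≫ G.map (K.d m (m + 1)) at hy
    obtain ⟨T₁, π₁, _, k, hk⟩ := exists_lift_gr K b hK m (by omega) p y (Or.inl (by omega))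
    refine ⟨T₁, π₁, inferInstance, k, ?_⟩
    change π₁ ≫ x = k ≫ G.map ((M K b hK).d m (m + 1))
    simp only [M, CochainComplex.of_d]
    rw [← cancel_mono (G.map (incLE K b hK (m + 1))), Category.assoc, Category.assoc, ← G.map_comp, Md_inc,
      G.map_comp, hy]
    exact (Category.assoc _ _ _).symm.trans ((congrArg (· ≫ _) hk).trans (Category.assoc _ _ _))
  have : Epi (HomologicalComplex.homologyMap ((FilD.grCx p).map (incHom K b hK)) n) := by
    rw [HomologicalComplex.epi_homologyMap_iff_up_to_refinements _ (n - 1) n (n + 1) (by simp) (by simp)]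
    intro T (y : T ⟶ G.obj (K.X n)) hy
    by_cases h : b < n
    · obtain ⟨T', π, hπ, k, hk⟩ := ((HomologicalComplex.exactAt_iff' ((FilD.grCx p).obj K) (n - 1) n (n + 1)
        (by simp) (by simp)).1 (hK p n h)).exact_up_to_refinements y hy
      refine ⟨T', π, hπ, 0, zero_comp, k, ?_⟩
      exact hk.trans ((zero_add _).symm.trans (congrArg (· + _) zero_comp.symm))
    change y ≫ G.map (K.d n (n + 1)) = 0 at hy
    obtain ⟨T₁, π₁, _, k, hk⟩ := exists_lift_gr K b hK n (not_lt.1 h) p y (Or.inr hy)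
    refine ⟨T₁, π₁, inferInstance, k, ?_, 0, ?_⟩
    · change k ≫ G.map ((M K b hK).d n (n + 1)) = 0
      simp only [M, CochainComplex.of_d]
      refine (cancel_mono (G.map (incLE K b hK (n + 1)))).1 (Eq.trans ?_ zero_comp.symm)
      rw [Category.assoc, ← G.map_comp, Md_inc,
        G.map_comp]
      exact (Category.assoc _ _ _).symm.trans ((congrArg (· ≫ _) hk.symm).trans
        ((Category.assoc _ _ _).trans ((congrArg (π₁ ≫ ·) hy).trans comp_zero)))
    · exact hk.trans ((add_zero _).symm.trans (congrArg (_ + ·) zero_comp.symm))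
  exact isIso_of_mono_of_epi _

include hK in
theorem exists_truncLE : ∃ (L : CochainComplex (FilD.FilF A) ℤ) (φ : L ⟶ K), L.IsStrictlyLE b ∧
    FilD.IsFilteredQuasiIso φ :=
  ⟨M K b hK, incHom K b hK, inferInstance, fun p => ⟨fun n => quasiIsoAt_incHom K b hK p n⟩⟩

end GrothLib.FilInj
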